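import Mathlib
import Cfsg.Agent.Classification.TitsFin.Defs_m3
import Cfsg.Agent.MinSimple.Basic
import Cfsg.Prelude.Def_CaseTheorems
import Cfsg.Agent.FastGrp
import Cfsg.Agent.Prune
set_option linter.all false
prune_inst 0x7ff0ffffeffcbfffffff7e7fffffdffdfdf9ffffffdffbfbffefebff7fff6be7bfedfba7ffecd2ffcff6e2b630f87b53fffffeffef6fdc7ffffd5ff45ffbffdfffffbd8951de9cb41fbc2ffff3f07fae7f3fffffffffffffffffffffffffffffffffffffffff
open scoped Cfsg.Agent.FastGrp

-- part: Classification/TitsFin/Octagon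
section
/-!
# Octagon geometry of order `(2, 4)`: number of lines, unique short paths, apartments
-/

set_option autoImplicit false

namespace Cfsg.Agent.Classification.TitsFin.Octagon

variable {P L : Type*}

/-- `x` and `y` are different points of the line `l` -/
def Fl (I : P → L → Prop) (x : P) (l : L) (y : P) : Prop := I x l ∧ I y l ∧ x ≠ y

/-- equal or collinear -/
def Col (I : P → L → Prop) (x y : P) : Prop := ∃ l, I x l ∧ I y l

/-- Points and lines with 3 points per line, 5 lines per point, such that the ends of (non-stammering) paths of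
length 0, 2, 4, 6, 8 are distinguished by `rel`, and every line has distance at most 7 from every point. -/
structure Oct (I : P → L → Prop) (rel : P → P → ℕ) : Prop where
  three : ∀ l, Nat.card {x // I x l} = 3
  five : ∀ x, Nat.card {l // I x l} = 5
  rel0 : ∀ x, rel x x = 0
  rel1 : ∀ {x0 l1 x1}, Fl I x0 l1 x1 → rel x0 x1 = 1
  rel2 : ∀ {x0 l1 x1 l2 x2}, Fl I x0 l1 x1 → l1 ≠ l2 → Fl I x1 l2 x2 → rel x0 x2 = 2
  rel3 : ∀ {x0 l1 x1 l2 x2 l3 x3}, Fl I x0 l1 x1 → l1 ≠ l2 → Fl I x1 l2 x2 → l2 ≠ l3 → Fl I x2 l3 x3 →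
    rel x0 x3 = 3
  rel4 : ∀ {x0 l1 x1 l2 x2 l3 x3 l4 x4}, Fl I x0 l1 x1 → l1 ≠ l2 → Fl I x1 l2 x2 → l2 ≠ l3 → Fl I x2 l3 x3 →
    l3 ≠ l4 → Fl I x3 l4 x4 → rel x0 x4 = 4
  near : ∀ x m, ∃ x1 x2 x3, Col I x x1 ∧ Col I x1 x2 ∧ Col I x2 x3 ∧ I x3 m

/-- `Arr I x n w m`: there is a non-stammering path of length `2 n + 1` from the point `x` to the line `m`, with last
point `w`. -/
inductive Arr (I : P → L → Prop) (x : P) : ℕ → P → L → Prop
  | zero {m : L} (h : I x m) : Arr I x 0 x m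
  | succ {n : ℕ} {w : P} {m : L} (h : Arr I x n w m) {z : P} {m' : L} (hz : I z m) (hzw : z ≠ w)
      (hz' : I z m') (hm : m ≠ m') : Arr I x (n + 1) z m'

section basic

variable {I : P → L → Prop} {rel : P → P → ℕ} {x : P}

theorem arr_mem {n : ℕ} {w : P} {m : L} (h : Arr I x n w m) : I w m := by
  cases h with
  | zero h => exact h
  | succ h hz hzw hz' hm => exact hz'

theorem Oct.rel_next (h : Oct I rel) {n : ℕ} {w z : P} {m : L} (ha : Arr I x n w m) (hn : n ≤ 3)
    (hz : I z m) (hzw : z ≠ w) : rel x z = n + 1 := by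
  cases ha with
  | zero h1 => exact h.rel1 ⟨h1, hz, hzw.symm⟩
  | succ ha hy hyw hy' hm =>
    cases ha with
    | zero h1 => exact h.rel2 ⟨h1, hy, hyw.symm⟩ hm ⟨hy', hz, hzw.symm⟩
    | succ ha hv hvw hv' hm2 =>
      cases ha with
      | zero h1 => exact h.rel3 ⟨h1, hv, hvw.symm⟩ hm2 ⟨hv', hy, hyw.symm⟩ hm ⟨hy', hz, hzw.symm⟩
      | succ ha hu huw hu' hm3 =>
        cases ha with
        | zero h1 =>
          exact h.rel4 ⟨h1, hu, huw.symm⟩ hm3 ⟨hu', hv, hvw.symm⟩ hm2 ⟨hv', hy, hyw.symm⟩ hm ⟨hy', hz, hzw.symm⟩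
        | succ ha ht htw ht' hm4 => omega

theorem Oct.rel_arr (h : Oct I rel) {n : ℕ} {w : P} {m : L} (ha : Arr I x n w m) (hn : n ≤ 4) :
    rel x w = n := by
  cases ha with
  | zero h1 => exact h.rel0 x
  | succ ha hy hyw hy' hm => exact h.rel_next ha (by omega) hy hyw

theorem Oct.uniq (h : Oct I rel) {n n' : ℕ} {w w' : P} {m : L} (ha : Arr I x n w m)
    (ha' : Arr I x n' w' m) (hn : n ≤ 3) (hn' : n' ≤ 3) : n = n' ∧ w = w' := by
  have hw : w = w' := by
    by_contra hne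
    have h1 := h.rel_next ha hn (arr_mem ha') (Ne.symm hne)
    have h2 := h.rel_next ha' hn' (arr_mem ha) hne
    have h3 := h.rel_arr ha (by omega)
    have h4 := h.rel_arr ha' (by omega)
    omega
  subst hw
  exact ⟨(h.rel_arr ha (by omega)).symm.trans (h.rel_arr ha' (by omega)), rfl⟩

theorem Oct.uniq_line (h : Oct I rel) {n : ℕ} {w w' z : P} {m m' k : L} (ha : Arr I x n w m)
    (ha' : Arr I x n w' m') (hn : n + 1 ≤ 3) (hz : I z m) (hzw : z ≠ w) (hz' : I z m')
    (_hk : I z k) : m = m' := by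
  by_contra hne
  have h1 : Arr I x (n + 1) z m' := Arr.succ ha hz hzw hz' hne
  have h2 := h.uniq h1 ha' hn (by omega)
  omega

end basic

/-- a path of length 7 from a point to a line is unique -/
theorem Oct.unique {I : P → L → Prop} {rel : P → P → ℕ} (h : Oct I rel)
    {x l1 x1 l2 x2 l3 x3 m l1' x1' l2' x2' l3' x3'}
    (a1 : Fl I x l1 x1) (b1 : l1 ≠ l2) (a2 : Fl I x1 l2 x2) (b2 : l2 ≠ l3) (a3 : Fl I x2 l3 x3)
    (b3 : l3 ≠ m) (a4 : I x3 m)
    (a1' : Fl I x l1' x1') (b1' : l1' ≠ l2') (a2' : Fl I x1' l2' x2') (b2' : l2' ≠ l3')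
    (a3' : Fl I x2' l3' x3') (b3' : l3' ≠ m) (a4' : I x3' m) :
    l1 = l1' ∧ x1 = x1' ∧ l2 = l2' ∧ x2 = x2' ∧ l3 = l3' ∧ x3 = x3' := by
  have A0 : Arr I x 0 x l1 := Arr.zero a1.1
  have A1 : Arr I x 1 x1 l2 := Arr.succ A0 a1.2.1 a1.2.2.symm a2.1 b1
  have A2 : Arr I x 2 x2 l3 := Arr.succ A1 a2.2.1 a2.2.2.symm a3.1 b2
  have A3 : Arr I x 3 x3 m := Arr.succ A2 a3.2.1 a3.2.2.symm a4 b3
  have A0' : Arr I x 0 x l1' := Arr.zero a1'.1
  have A1' : Arr I x 1 x1' l2' := Arr.succ A0' a1'.2.1 a1'.2.2.symm a2'.1 b1'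
  have A2' : Arr I x 2 x2' l3' := Arr.succ A1' a2'.2.1 a2'.2.2.symm a3'.1 b2'
  have A3' : Arr I x 3 x3' m := Arr.succ A2' a3'.2.1 a3'.2.2.symm a4' b3'
  obtain ⟨-, e3⟩ := h.uniq A3 A3' le_rfl le_rfl
  subst e3
  have f3 := h.uniq_line A2 A2' le_rfl a3.2.1 a3.2.2.symm a3'.2.1 a4
  subst f3
  obtain ⟨-, e2⟩ := h.uniq A2 A2' (by norm_num) (by norm_num)
  subst e2
  have f2 := h.uniq_line A1 A1' (by norm_num) a2.2.1 a2.2.2.symm a2'.2.1 a3.1
  subst f2
  obtain ⟨-, e1⟩ := h.uniq A1 A1' (by norm_num) (by norm_num)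
  subst e1
  have f1 := h.uniq_line A0 A0' (by norm_num) a1.2.1 a1.2.2.symm a1'.2.1 a2.1
  subst f1
  exact ⟨rfl, rfl, rfl, rfl, rfl, rfl⟩

section reach

variable {I : P → L → Prop} {rel : P → P → ℕ} {x : P}

/-- `y` has distance at most `2 k` from `x`. -/
def Reach (I : P → L → Prop) (x : P) (k : ℕ) (y : P) : Prop :=
  y = x ∨ ∃ n < k, ∃ w m, Arr I x n w m ∧ I y m ∧ y ≠ w

theorem reach_of_arr {n : ℕ} {w : P} {m : L} (h : Arr I x n w m) : Reach I x n w := by
  cases h with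
  | zero h => exact Or.inl rfl
  | succ h hz hzw hz' hm => exact Or.inr ⟨_, Nat.lt_succ_self _, _, _, h, hz, hzw⟩

theorem Reach.mono {k k' : ℕ} (hk : k ≤ k') {y : P} (h : Reach I x k y) : Reach I x k' y := by
  rcases h with h | ⟨n, hn, w, m, h⟩
  · exact Or.inl h
  · exact Or.inr ⟨n, lt_of_lt_of_le hn hk, w, m, h⟩

theorem Reach.step {k : ℕ} {y z : P} (h : Reach I x k y) (hc : Col I y z) : Reach I x (k + 1) z := by
  obtain ⟨l', hy, hz⟩ := hc
  by_cases hzy : z = y
  · rw [hzy]; exact h.mono (Nat.le_succ k)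
  rcases h with rfl | ⟨n, hn, w, l, ha, hyl, hyw⟩
  · exact Or.inr ⟨0, Nat.succ_pos k, _, _, Arr.zero hy, hz, hzy⟩
  · by_cases hll : l = l'
    · subst hll
      by_cases hzw : z = w
      · rw [hzw]; exact (reach_of_arr ha).mono (by omega)
      · exact Or.inr ⟨n, by omega, w, l, ha, hz, hzw⟩
    · exact Or.inr ⟨n + 1, by omega, y, l', Arr.succ ha hyl hyw hy hll, hz, hzy⟩

theorem Reach.arr {k : ℕ} {y : P} (h : Reach I x k y) {m : L} (hm : I y m) :
    ∃ n ≤ k, ∃ w, Arr I x n w m := by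
  rcases h with rfl | ⟨n, hn, w, l, ha, hyl, hyw⟩
  · exact ⟨0, Nat.zero_le k, _, Arr.zero hm⟩
  · by_cases hlm : l = m
    · subst hlm; exact ⟨n, hn.le, w, ha⟩
    · exact ⟨n + 1, hn, y, Arr.succ ha hyl hyw hm hlm⟩

theorem Oct.exists_arr (h : Oct I rel) (x : P) (m : L) : ∃ n ≤ 3, ∃ w, Arr I x n w m := by
  obtain ⟨x1, x2, x3, c1, c2, c3, hm⟩ := h.near x m
  have h0 : Reach I x 0 x := Or.inl rfl
  exact (((h0.step c1).step c2).step c3).arr hm

/-- another point of a line -/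
theorem Oct.exists_point (h : Oct I rel) (l : L) (y : P) : ∃ z, I z l ∧ z ≠ y := by
  by_contra hcon
  push Not at hcon
  have h1 : Nat.card {x // I x l} ≤ 1 := by
    have : Subsingleton {x // I x l} := ⟨fun a b => Subtype.ext ((hcon a a.2).trans (hcon b b.2).symm)⟩
    exact Finite.card_le_one_iff_subsingleton.2 this
  have := h.three l
  omega

/-- another line through a point -/
theorem Oct.exists_line (h : Oct I rel) (y : P) (l : L) : ∃ m, I y m ∧ l ≠ m := by
  by_contra hcon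
  push Not at hcon
  have h1 : Nat.card {l // I y l} ≤ 1 := by
    have : Subsingleton {l // I y l} := ⟨fun a b => Subtype.ext ((hcon a a.2).symm.trans (hcon b b.2))⟩
    exact Finite.card_le_one_iff_subsingleton.2 this
  have := h.five y
  omega

end reach

/-- there is an apartment -/
theorem Oct.exists_apartment {I : P → L → Prop} {rel : P → P → ℕ} [Nonempty P] (h : Oct I rel) :
    ∃ (X : ZMod 8 → P) (l : ZMod 8 → L), ∀ i, Fl I (X i) (l i) (X (i + 1)) ∧ l i ≠ l (i + 1) := by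
  obtain ⟨x⟩ := ‹Nonempty P›
  obtain ⟨l1, hl1⟩ : ∃ l, I x l := by
    have h5 := h.five x
    have : Nonempty {l // I x l} := (Nat.card_pos_iff.1 (by omega)).1
    exact ⟨this.some.1, this.some.2⟩
  obtain ⟨x1, hx1, hx1x⟩ := h.exists_point l1 x
  obtain ⟨l2, hl2, h12⟩ := h.exists_line x1 l1
  obtain ⟨x2, hx2, hx21⟩ := h.exists_point l2 x1
  obtain ⟨l3, hl3, h23⟩ := h.exists_line x2 l2
  obtain ⟨x3, hx3, hx32⟩ := h.exists_point l3 x2
  obtain ⟨l4, hl4, h34⟩ := h.exists_line x3 l3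
  obtain ⟨x4, hx4, hx43⟩ := h.exists_point l4 x3
  obtain ⟨m, hm, h4m⟩ := h.exists_line x4 l4
  have A0 : Arr I x 0 x l1 := Arr.zero hl1
  have A1 : Arr I x 1 x1 l2 := Arr.succ A0 hx1 hx1x hl2 h12
  have A2 : Arr I x 2 x2 l3 := Arr.succ A1 hx2 hx21 hl3 h23
  have A3 : Arr I x 3 x3 l4 := Arr.succ A2 hx3 hx32 hl4 h34
  have A4 : Arr I x 4 x4 m := Arr.succ A3 hx4 hx43 hm h4m
  obtain ⟨n, hn, w, hw⟩ := h.exists_arr x m
  have r4 : rel x x4 = 4 := h.rel_arr A4 le_rfl
  have hwx : x4 ≠ w := by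
    intro he
    have := h.rel_arr hw (by omega)
    rw [← he] at this
    omega
  have hn3 : n = 3 := by
    have := h.rel_next hw hn hm hwx
    omega
  subst hn3
  cases hw with
  | succ hw hy hyw hy' hmm =>
    rename_i y2 m3
    cases hw with
    | succ hw hv hvw hv' hm2 =>
      rename_i y1 m2
      cases hw with
      | succ hw hu huw hu' hm1 =>
        rename_i y0 m1
        cases hw with
        | zero h0 =>
          -- base point `x1`
          have hne : l1 ≠ m1 := by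
            intro he
            subst he
            have B0 : Arr I x1 0 x1 l2 := Arr.zero hl2
            have B1 : Arr I x1 1 x2 l3 := Arr.succ B0 hx2 hx21 hl3 h23
            have B2 : Arr I x1 2 x3 l4 := Arr.succ B1 hx3 hx32 hl4 h34
            have B3 : Arr I x1 3 x4 m := Arr.succ B2 hx4 hx43 hm h4m
            by_cases he : y1 = x1
            · subst he
              have C0 : Arr I y1 0 y1 m2 := Arr.zero hu'
              have C1 : Arr I y1 1 y2 m3 := Arr.succ C0 hv hvw hv' hm2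
              have C2 : Arr I y1 2 w m := Arr.succ C1 hy hyw hy' hmm
              have := (h.uniq B3 C2 le_rfl (by norm_num)).1
              omega
            · have C0 : Arr I x1 0 x1 l1 := Arr.zero hx1
              have C1 : Arr I x1 1 y1 m2 := Arr.succ C0 hu he hu' hm1
              have C2 : Arr I x1 2 y2 m3 := Arr.succ C1 hv hvw hv' hm2
              have C3 : Arr I x1 3 w m := Arr.succ C2 hy hyw hy' hmm
              exact hwx (h.uniq B3 C3 le_rfl le_rfl).2
          refine ⟨(![x, x1, x2, x3, x4, w, y2, y1] : Fin 8 → P), (![l1, l2, l3, l4, m, m3, m2, m1] : Fin 8 → L),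
            fun i => ?_⟩
          have key : ∀ i : Fin 8, Fl I ((![x, x1, x2, x3, x4, w, y2, y1] : Fin 8 → P) i)
              ((![l1, l2, l3, l4, m, m3, m2, m1] : Fin 8 → L) i)
              ((![x, x1, x2, x3, x4, w, y2, y1] : Fin 8 → P) (i + 1)) ∧
              (![l1, l2, l3, l4, m, m3, m2, m1] : Fin 8 → L) i ≠
                (![l1, l2, l3, l4, m, m3, m2, m1] : Fin 8 → L) (i + 1) := by
            intro i
            fin_cases i
            · exact ⟨⟨hl1, hx1, hx1x.symm⟩, h12⟩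
            · exact ⟨⟨hl2, hx2, hx21.symm⟩, h23⟩
            · exact ⟨⟨hl3, hx3, hx32.symm⟩, h34⟩
            · exact ⟨⟨hl4, hx4, hx43.symm⟩, h4m⟩
            · exact ⟨⟨hm, hy', hwx⟩, hmm.symm⟩
            · exact ⟨⟨hy, hv', hyw⟩, hm2.symm⟩
            · exact ⟨⟨hv, hu', hvw⟩, hm1.symm⟩
            · exact ⟨⟨hu, h0, huw⟩, hne.symm⟩
          exact key i

section count

variable {I : P → L → Prop} {rel : P → P → ℕ}

/-- the lines of distance `2 n + 1` from `x` -/
abbrev A (I : P → L → Prop) (x : P) (n : ℕ) : Type _ := {m : L // ∃ w, Arr I x n w m}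

/-- the pairs (point, line) following a line of distance `2 n + 1` -/
abbrev E (I : P → L → Prop) (x : P) (n : ℕ) : Type _ := Σ a : A I x n, {z : P // I z a.1 ∧ z ≠ a.2.choose}

theorem card_ne {Q : Type*} [Finite Q] (p : Q → Prop) (w : Q) (hw : p w) :
    Nat.card {z : Q // p z ∧ z ≠ w} + 1 = Nat.card {z : Q // p z} := by
  classical
  have := Fintype.ofFinite Q
  rw [Nat.card_eq_fintype_card, Nat.card_eq_fintype_card, Fintype.card_subtype, Fintype.card_subtype]
  have : (Finset.univ.filter fun z => p z ∧ z ≠ w) = (Finset.univ.filter fun z => p z).erase w := by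
    ext z; simp only [and_comm, _root_.ne_eq, _root_.Finset.mem_filter, _root_.Finset.mem_univ, _root_.true_and, _root_.Finset.mem_erase]
  rw [this, Finset.card_erase_of_mem (by simpa only [_root_.Finset.mem_filter, _root_.Finset.mem_univ, _root_.true_and] using hw)]
  have : 0 < (Finset.univ.filter fun z => p z).card := Finset.card_pos.2 ⟨w, by simpa only [_root_.Finset.mem_filter, _root_.Finset.mem_univ, _root_.true_and] using hw⟩
  omega

theorem Oct.card_A0 (h : Oct I rel) (x : P) : Nat.card (A I x 0) = 5 := by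
  rw [← h.five x]
  refine Nat.card_congr (Equiv.subtypeEquivRight fun m => ⟨?_, fun hm => ⟨x, Arr.zero hm⟩⟩)
  rintro ⟨w, hw⟩
  cases hw with
  | zero h => exact h

theorem Oct.card_E [Finite P] [Finite L] (h : Oct I rel) (x : P) (n : ℕ) :
    Nat.card (E I x n) = Nat.card (A I x n) * 2 := by
  classical
  have := Fintype.ofFinite L
  have : Fintype (A I x n) := Fintype.ofFinite _
  rw [Nat.card_sigma]
  have : ∀ a : A I x n, Nat.card {z : P // I z a.1 ∧ z ≠ a.2.choose} = 2 := by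
    intro a
    have h1 := card_ne (fun z => I z a.1) a.2.choose (arr_mem a.2.choose_spec)
    rw [h.three] at h1
    omega
  rw [Finset.sum_congr rfl fun a _ => this a, Finset.sum_const, Finset.card_univ, Nat.card_eq_fintype_card,
    smul_eq_mul]

theorem Oct.card_A_succ [Finite P] [Finite L] (h : Oct I rel) (x : P) (n : ℕ) (hn : n + 1 ≤ 3) :
    Nat.card (A I x (n + 1)) = Nat.card (E I x n) * 4 := by
  classical
  have := Fintype.ofFinite L
  have := Fintype.ofFinite P
  have : Fintype (E I x n) := Fintype.ofFinite _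
  have hc : ∀ e : E I x n, Nat.card {m : L // I e.2.1 m ∧ m ≠ e.1.1} = 4 := by
    intro e
    have h1 := card_ne (fun m => I e.2.1 m) e.1.1 e.2.2.1
    rw [h.five] at h1
    omega
  have key : Nat.card (Σ e : E I x n, {m : L // I e.2.1 m ∧ m ≠ e.1.1}) = Nat.card (E I x n) * 4 := by
    rw [Nat.card_sigma, Finset.sum_congr rfl fun a _ => hc a, Finset.sum_const, Finset.card_univ,
      Nat.card_eq_fintype_card, smul_eq_mul]
  rw [← key]
  symm
  have ar : ∀ (e : E I x n) (m : {m : L // I e.2.1 m ∧ m ≠ e.1.1}), Arr I x (n + 1) e.2.1 m.1 :=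
    fun e m => Arr.succ e.1.2.choose_spec e.2.2.1 e.2.2.2 m.2.1 m.2.2.symm
  refine Nat.card_congr (Equiv.ofBijective (fun em => ⟨em.2.1, em.1.2.1, ar em.1 em.2⟩) ⟨?_, ?_⟩)
  · rintro ⟨⟨⟨l, hl⟩, z, hz⟩, m, hm⟩ ⟨⟨⟨l', hl'⟩, z', hz'⟩, m', hm'⟩ heq
    have hmm : m = m' := congrArg Subtype.val heq
    subst hmm
    have a1 := ar ⟨⟨l, hl⟩, z, hz⟩ ⟨m, hm⟩
    have a2 := ar ⟨⟨l', hl'⟩, z', hz'⟩ ⟨m, hm'⟩
    have hzz : z = z' := (h.uniq a1 a2 hn hn).2
    subst hzz
    have hll : l = l' := h.uniq_line hl.choose_spec hl'.choose_spec hn hz.1 hz.2 hz'.1 hm.1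
    subst hll
    rfl
  · rintro ⟨m, w, hw⟩
    cases hw with
    | succ ha hz hzw hz' hm =>
      rename_i w0 l
      have hl : ∃ w, Arr I x n w l := ⟨w0, ha⟩
      have hw0 : w0 = hl.choose := (h.uniq ha hl.choose_spec (by omega) (by omega)).2
      exact ⟨⟨⟨⟨l, hl⟩, w, hz, hw0 ▸ hzw⟩, m, hz', hm.symm⟩, rfl⟩

end count

/-- the number of lines of an octagon of order `(2, 4)` -/
theorem Oct.card_lines {I : P → L → Prop} {rel : P → P → ℕ} [Finite P] [Finite L] [Nonempty P] (h : Oct I rel) :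
    Nat.card L = 2925 := by
  classical
  obtain ⟨x⟩ := ‹Nonempty P›
  have e0 := h.card_A0 x
  have e1 := h.card_A_succ x 0 (by norm_num)
  have e2 := h.card_A_succ x 1 (by norm_num)
  have e3 := h.card_A_succ x 2 (by norm_num)
  rw [h.card_E x, e0] at e1
  rw [h.card_E x, e1] at e2
  rw [h.card_E x, e2] at e3
  have key : Nat.card (Σ n : Fin 4, A I x n) = Nat.card L := by
    refine Nat.card_congr (Equiv.ofBijective (fun a => a.2.1) ⟨?_, ?_⟩)
    · rintro ⟨n, m, w, hw⟩ ⟨n', m', w', hw'⟩ heq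
      have hmm : m = m' := heq
      subst hmm
      have hnn := (h.uniq hw hw' (by omega) (by omega)).1
      have hnn' : n = n' := Fin.ext hnn
      subst hnn'
      rfl
    · intro m
      obtain ⟨n, hn, w, hw⟩ := h.exists_arr x m
      exact ⟨⟨⟨n, by omega⟩, m, w, hw⟩, rfl⟩
  rw [← key, Nat.card_sigma, Fin.sum_univ_four]
  have f0 : Nat.card (A I x ((0 : Fin 4) : ℕ)) = 5 := e0
  have f1 : Nat.card (A I x ((1 : Fin 4) : ℕ)) = 5 * 2 * 4 := e1
  have f2 : Nat.card (A I x ((2 : Fin 4) : ℕ)) = 5 * 2 * 4 * 2 * 4 := e2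
  have f3 : Nat.card (A I x ((3 : Fin 4) : ℕ)) = 5 * 2 * 4 * 2 * 4 * 2 * 4 := e3
  rw [f0, f1, f2, f3]

end Cfsg.Agent.Classification.TitsFin.Octagon
end

-- part: Classification/TitsFin/Frame
section
/-!
# Frames: coordinates for `U_x` and the action of `C(x)` on it
-/

set_option autoImplicit false

namespace Cfsg.Agent.Classification.TitsFin

open Subgroup

variable {G : Type*} [Group G]

/-- the `i`-th unit vector times `c` -/
def sg (i : ZMod 5) (c : ZMod 2) : ZMod 5 → ZMod 2 := Pi.single i c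

theorem ext_F {F F' : ZMod 2 → (ZMod 5 → ZMod 2) → G}
    (m : ∀ a b s t, F a s * F b t = F (a + b) (s + t))
    (m' : ∀ a b s t, F' a s * F' b t = F' (a + b) (s + t)) (h0 : F 0 0 = F' 0 0)
    (h1 : F 1 0 = F' 1 0) (h2 : ∀ i, F 0 (Pi.single i 1) = F' 0 (Pi.single i 1))
    (a : ZMod 2) (s : ZMod 5 → ZMod 2) : F a s = F' a s := by
  have hs : ∀ s : ZMod 5 → ZMod 2, s = 0 + (sg 0 (s 0) + (sg 1 (s 1) + (sg 2 (s 2) +
      (sg 3 (s 3) + sg 4 (s 4))))) := by decide +kernel
  have h3 : ∀ (i : ZMod 5) (c : ZMod 2), F 0 (sg i c) = F' 0 (sg i c) := by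
    intro i c
    rcases zmod2 c with rfl | rfl
    · simpa [sg] using h0
    · exact h2 i
  have h4 : F a 0 = F' a 0 := by
    rcases zmod2 a with rfl | rfl
    · exact h0
    · exact h1
  have h5 : ∀ F : ZMod 2 → (ZMod 5 → ZMod 2) → G, (∀ a b s t, F a s * F b t = F (a + b) (s + t)) →
      F a s = F a 0 * (F 0 (sg 0 (s 0)) * (F 0 (sg 1 (s 1)) * (F 0 (sg 2 (s 2)) *
        (F 0 (sg 3 (s 3)) * F 0 (sg 4 (s 4)))))) := by
    intro F m
    rw [m, m, m, m, m, ← hs s]
    simp
  rw [h5 F m, h5 F' m', h4, h3, h3, h3, h3, h3]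

theorem el_aff {x : G} {y : ZMod 5 → G} (E : Elem x y) {k k' : ZMod 5} (hk : k * k' = 1) (j : ZMod 5)
    (e : ZMod 5 → ZMod 2) (a : ZMod 2) (s : ZMod 5 → ZMod 2) :
    el x (fun i => tw x (e i) * y (k * i + j)) a s
      = el x y (a + ∑ i, e i * s i) (fun m => s (k' * (m - j))) := by
  have hE : Elem x (fun i => tw x (e i) * y (k * i + j)) := by
    have hc : ∀ i (a : ZMod 2), tw x a * y i = y i * tw x a := by
      intro i a
      simpa only [_root_.Cfsg.Agent.Classification.TitsFin.tw_one] using tw_comm (E.xy i) a 1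
    refine ⟨E.xx, fun i => ?_, fun i => ?_, fun i j' => ?_⟩
    · show tw x (e i) * y (k * i + j) * (tw x (e i) * y (k * i + j)) = 1
      rw [mul4 (hc _ _).symm, tw_sq E.xx, E.yy, one_mul]
    · show x * (tw x (e i) * y (k * i + j)) = tw x (e i) * y (k * i + j) * x
      have h1 : x * tw x (e i) = tw x (e i) * x := by
        simpa only [_root_.Cfsg.Agent.Classification.TitsFin.tw_one] using tw_comm (rfl : x * x = x * x) 1 (e i)
      rw [← mul_assoc, h1, mul_assoc, E.xy, mul_assoc]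
    · show tw x (e i) * y (k * i + j) * (tw x (e j') * y (k * j' + j)) =
        tw x (e j') * y (k * j' + j) * (tw x (e i) * y (k * i + j))
      rw [mul4 (hc _ _).symm, mul4 (hc _ _).symm, E.yc, ← tw_add E.xx, ← tw_add E.xx, add_comm (e i)]
  refine ext_F (F := fun a s => el x (fun i => tw x (e i) * y (k * i + j)) a s)
    (F' := fun a s => el x y (a + ∑ i, e i * s i) (fun m => s (k' * (m - j))))
    (fun a b s t => hE.el_mul a b s t) (fun a b s t => ?_) ?_ ?_ (fun i => ?_) a s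
  · show el x y _ _ * el x y _ _ = el x y _ _
    rw [E.el_mul]
    congr 1
    simp only [Pi.add_apply, mul_add, Finset.sum_add_distrib]
    ring
  · show el x _ 0 0 = el x y _ _
    simp only [Pi.zero_apply, mul_zero, Finset.sum_const_zero, add_zero, el_zero]
    exact (el_zero x y).symm
  · show el x _ 1 0 = el x y _ _
    simp only [Pi.zero_apply, mul_zero, Finset.sum_const_zero, add_zero, el_x]
    exact (el_x x y).symm
  · show el x (fun i => tw x (e i) * y (k * i + j)) 0 (Pi.single i 1) = el x y _ _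
    rw [el_single]
    have h1 : (fun m => (Pi.single i 1 : ZMod 5 → ZMod 2) (k' * (m - j))) = Pi.single (k * i + j) 1 := by
      funext m
      rw [Pi.single_apply, Pi.single_apply]
      congr 1
      apply propext
      constructor
      · intro h
        rw [← h, ← mul_assoc, hk, one_mul, sub_add_cancel]
      · intro h
        rw [h, add_sub_cancel_right, ← mul_assoc, mul_comm k', hk, one_mul]
    rw [h1]
    have h2 : ∑ l, e l * (Pi.single i 1 : ZMod 5 → ZMod 2) l = e i := by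
      simp [Pi.single_apply]
    rw [h2]
    have h3 : el x y (0 + e i) (Pi.single (k * i + j) 1) = el x y (e i) 0 * el x y 0 (Pi.single (k * i + j) 1) := by
      rw [E.el_mul]; simp
    rw [h3, el_tw, el_single]

theorem el_conj (g x : G) (y : ZMod 5 → G) (a : ZMod 2) (s : ZMod 5 → ZMod 2) :
    g * el x y a s * g⁻¹ = el (g * x * g⁻¹) (fun i => g * y i * g⁻¹) a s := by
  unfold el
  rw [← tw_conj, ← tw_conj, ← tw_conj, ← tw_conj, ← tw_conj, ← tw_conj]
  group

/-- A frame at the point `x`. -/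
structure Frame (z p x : G) (y : ZMod 5 → G) : Prop extends Elem x y where
  adj : ∀ w, Adj z p x w ↔ ∃ i, w = y i ∨ w = x * y i
  prod : el x y 0 1 = 1
  inj : ∀ a s, el x y a s = 1 → a = 0 ∧ (s = 0 ∨ s = 1)
  mem : ∀ u, u ∈ U z p x ↔ ∃ a s, u = el x y a s
  act : ∀ g, g * x = x * g → ∃ k j : ZMod 5, ∃ e : ZMod 5 → ZMod 2, k ≠ 0 ∧ ∑ i, e i = 0 ∧
    ∀ i, g * y i * g⁻¹ = tw x (e i) * y (k * i + j)
  real : ∀ (k j : ZMod 5) (e : ZMod 5 → ZMod 2), k ≠ 0 → ∑ i, e i = 0 → ∃ g, g * x = x * g ∧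
    ∀ i, g * y i * g⁻¹ = tw x (e i) * y (k * i + j)
  cent : ∀ g, g * x = x * g → (∀ i, g * y i = y i * g) → g ∈ U z p x

/-- the first part of the construction: five points on different lines permuted by `f` -/
structure Pre (z p : G) (f : G) (y : ZMod 5 → G) : Prop where
  fz : f * z = z * f
  shift : ∀ i, f * y i * f⁻¹ = y (i + 1)
  adj : ∀ i, Adj z p z (y i)
  ne : y 0 ≠ y 1

namespace FinHyp

variable {z p : G}

theorem symm (h : FinHyp z p) {x w : G} (a : Adj z p x w) : Adj z p w x := by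
  obtain ⟨g, h1, h2⟩ := a
  obtain ⟨r, h3, h4⟩ := h.swap
  refine ⟨g * r, ?_, ?_⟩
  · rw [← h2, ← h3]; group
  · have e : g * r * p * (g * r)⁻¹ = g * (r * p * r⁻¹) * g⁻¹ := by group
    rw [e, h4, h1]

theorem third (h : FinHyp z p) {x w : G} (a : Adj z p x w) : Adj z p x (x * w) := by
  obtain ⟨g, h1, h2⟩ := a
  obtain ⟨r, h3, h4⟩ := h.rot
  refine ⟨g * r, ?_, ?_⟩
  · have e : g * r * z * (g * r)⁻¹ = g * (r * z * r⁻¹) * g⁻¹ := by group
    rw [e, h3, h1]
  · have e : g * r * p * (g * r)⁻¹ = g * (r * p * r⁻¹) * g⁻¹ := by group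
    rw [e, h4, ← h1, ← h2]
    group

theorem adj_sq (h : FinHyp z p) {x w : G} (a : Adj z p x w) : x * x = 1 := by
  obtain ⟨g, h1, h2⟩ := a
  rw [← h1]
  have e : g * z * g⁻¹ * (g * z * g⁻¹) = g * (z * z) * g⁻¹ := by group
  rw [e, h.z_sq]
  group

theorem adj_comm (h : FinHyp z p) {x w : G} (a : Adj z p x w) : x * w = w * x := by
  obtain ⟨g, h1, h2⟩ := a
  rw [← h1, ← h2]
  have e : g * z * g⁻¹ * (g * p * g⁻¹) = g * (z * p) * g⁻¹ := by group
  rw [e, h.zp]
  group

theorem adj_zp (_h : FinHyp z p) : Adj z p z p := ⟨1, by simp, by simp⟩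

section pre

variable {f : G} {y : ZMod 5 → G}

theorem pre_pow (P : Pre z p f y) (n : ℕ) (i : ZMod 5) : f ^ n * y i * (f ^ n)⁻¹ = y (i + n) := by
  induction n generalizing i with
  | zero => simp
  | succ n ih =>
    have e : f ^ (n + 1) * y i * (f ^ (n + 1))⁻¹ = f ^ n * (f * y i * f⁻¹) * (f ^ n)⁻¹ := by
      rw [pow_succ]; group
    rw [e, P.shift, ih]
    congr 1
    push_cast
    ring

theorem pre_pow_z (P : Pre z p f y) (n : ℕ) : f ^ n * z * (f ^ n)⁻¹ = z := by
  have h1 : Commute f z := P.fz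
  have h2 := h1.pow_left n
  rw [h2.eq]
  group

omit [Group G] in
theorem const_of {y : ZMod 5 → G} (d : ZMod 5) (hd : d ≠ 0) (hy : ∀ i, y i = y (i + d)) : ∀ i, y i = y (i + 1) := by
  intro i
  have h1 : ∀ n : ℕ, ∀ i, y i = y (i + n * d) := by
    intro n
    induction n with
    | zero => intro i; simp
    | succ n ih =>
      intro i
      rw [ih i, hy (i + n * d)]
      congr 1
      push_cast
      ring
  have h2 : ∀ d : ZMod 5, d ≠ 0 → ∃ n : ℕ, (n : ZMod 5) * d = 1 := by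
    intro d hd
    have : Fact (Nat.Prime 5) := ⟨by norm_num⟩
    exact ⟨(d⁻¹).val, by rw [ZMod.natCast_zmod_val, inv_mul_cancel₀ hd]⟩
  obtain ⟨n, hn⟩ := h2 d hd
  rw [h1 n i, hn]

theorem pre_inj (P : Pre z p f y) {i j : ZMod 5} (hij : y i = y j) : i = j := by
  by_contra hne
  have h1 : ∀ k, y k = y (k + (j - i)) := by
    intro k
    have h2 := pre_pow P (k - i).val i
    have h3 := pre_pow P (k - i).val j
    rw [ZMod.natCast_zmod_val] at h2 h3
    rw [hij, h3] at h2
    rw [show k + (j - i) = j + (k - i) by ring, h2]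
    congr 1
    ring
  have h2 := const_of (j - i) (sub_ne_zero.mpr (Ne.symm hne)) h1 0
  exact P.ne (by simpa using h2)

theorem pre_ne (h : FinHyp z p) (P : Pre z p f y) {i j : ZMod 5} (hij : y i = z * y j) : False := by
  have h1 : ∀ k, y k = z * y (k + (j - i)) := by
    intro k
    have h2 := pre_pow P (k - i).val i
    have h3 := pre_pow P (k - i).val j
    have h4 := pre_pow_z P (k - i).val
    rw [ZMod.natCast_zmod_val] at h2 h3
    have e : f ^ (k - i).val * (z * y j) * (f ^ (k - i).val)⁻¹ =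
      (f ^ (k - i).val * z * (f ^ (k - i).val)⁻¹) * (f ^ (k - i).val * y j * (f ^ (k - i).val)⁻¹) := by group
    rw [hij, e, h3, h4] at h2
    rw [show k + (j - i) = j + (k - i) by ring, h2]
    congr 1
    ring
  by_cases hd : j - i = 0
  · have h2 := h1 0
    rw [hd, add_zero] at h2
    exact h.z_ne (mul_eq_right.mp h2.symm)
  · have h2 : ∀ k, y k = y (k + (2 * (j - i))) := by
      intro k
      rw [h1 k, h1 (k + (j - i)), ← mul_assoc, h.z_sq, one_mul]
      congr 1
      ring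
    have h3 := const_of (2 * (j - i)) (by
      intro h4
      have : ∀ d : ZMod 5, 2 * d = 0 → d = 0 := by decide
      exact hd (this _ h4)) h2 0
    exact P.ne (by simpa using h3)

theorem pre_adj_iff [Finite G] (h : FinHyp z p) (P : Pre z p f y) (w : G) :
    Adj z p z w ↔ ∃ i, w = y i ∨ w = z * y i := by
  have hA : ∀ q : ZMod 5 × ZMod 2, Adj z p z (tw z q.2 * y q.1) := by
    rintro ⟨i, a⟩
    rcases zmod2 a with rfl | rfl
    · simpa using P.adj i
    · simpa using h.third (P.adj i)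
  have hb : Function.Bijective
      (fun q : ZMod 5 × ZMod 2 => (⟨tw z q.2 * y q.1, hA q⟩ : {x // Adj z p z x})) := by
    rw [Nat.bijective_iff_injective_and_card]
    constructor
    · rintro ⟨i, a⟩ ⟨j, b⟩ hab
      have h1 : tw z a * y i = tw z b * y j := congrArg Subtype.val hab
      rcases zmod2 a with rfl | rfl <;> rcases zmod2 b with rfl | rfl
      · simp only [tw_zero, one_mul] at h1
        rw [pre_inj P h1]
      · simp only [tw_zero, one_mul, tw_one] at h1
        exact (pre_ne h P h1).elim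
      · simp only [tw_zero, one_mul, tw_one] at h1
        exact (pre_ne h P h1.symm).elim
      · simp only [tw_one] at h1
        rw [pre_inj P (mul_left_cancel h1)]
    · rw [h.cardA, Nat.card_prod, Nat.card_zmod, Nat.card_zmod]
  constructor
  · intro hw
    obtain ⟨⟨i, a⟩, hq⟩ := hb.2 ⟨w, hw⟩
    have h1 : tw z a * y i = w := congrArg Subtype.val hq
    refine ⟨i, ?_⟩
    rcases zmod2 a with rfl | rfl
    · left; simpa using h1.symm
    · right; simpa using h1.symm
  · rintro ⟨i, rfl | rfl⟩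
    · exact P.adj i
    · exact h.third (P.adj i)

theorem pre_elem (h : FinHyp z p) (P : Pre z p f y) : Elem z y :=
  ⟨h.z_sq, fun i => h.adj_sq (h.symm (P.adj i)), fun i => h.adj_comm (P.adj i),
    fun i j => h.comm _ _ (P.adj i) (P.adj j)⟩

theorem el_mem_U {y : ZMod 5 → G} {x : G} (hy : ∀ i, y i ∈ U z p x) (a : ZMod 2)
    (s : ZMod 5 → ZMod 2) : el x y a s ∈ U z p x := by
  have h1 : ∀ {u : G} (a : ZMod 2), u ∈ U z p x → tw u a ∈ U z p x := by
    intro u a hu
    rcases zmod2 a with rfl | rfl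
    · simp
    · simpa using hu
  unfold el
  exact mul_mem (h1 _ self_mem_U) (mul_mem (h1 _ (hy _)) (mul_mem (h1 _ (hy _)) (mul_mem (h1 _ (hy _))
    (mul_mem (h1 _ (hy _)) (h1 _ (hy _))))))

theorem pre_mem [Finite G] (h : FinHyp z p) (P : Pre z p f y) (u : G) :
    u ∈ U z p z ↔ ∃ a s, u = el z y a s := by
  have E := pre_elem h P
  constructor
  · intro hu
    refine closure_induction (p := fun u _ => ∃ a s, u = el z y a s) ?_ ?_ ?_ ?_ hu
    · rintro u (rfl | hu)
      · exact ⟨1, 0, (el_x _ _).symm⟩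
      · obtain ⟨i, hi | hi⟩ := (pre_adj_iff h P u).mp hu
        · exact ⟨0, Pi.single i 1, by rw [el_single, hi]⟩
        · refine ⟨1, Pi.single i 1, ?_⟩
          have h1 : el z y 1 (Pi.single i 1) = el z y 1 0 * el z y 0 (Pi.single i 1) := by
            rw [E.el_mul]; simp
          rw [h1, el_single, el_x, hi]
    · exact ⟨0, 0, (el_zero _ _).symm⟩
    · rintro u v _ _ ⟨a, s, rfl⟩ ⟨b, t, rfl⟩
      exact ⟨a + b, s + t, E.el_mul _ _ _ _⟩
    · rintro u _ ⟨a, s, rfl⟩
      exact ⟨a, s, E.el_inv _ _⟩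
  · rintro ⟨a, s, rfl⟩
    exact el_mem_U (fun i => mem_U_of_adj (P.adj i)) a s

theorem pre_conj (h : FinHyp z p) (P : Pre z p f y) (a : ZMod 2) (s : ZMod 5 → ZMod 2) :
    f * el z y a s * f⁻¹ = el z y a (fun m => s (m - 1)) := by
  rw [el_conj]
  have h1 : f * z * f⁻¹ = z := by rw [P.fz]; group
  have h2 : (fun i => f * y i * f⁻¹) = fun i => tw z ((0 : ZMod 5 → ZMod 2) i) * y (1 * i + 1) := by
    funext i
    rw [P.shift]
    simp
  rw [h1, h2, el_aff (pre_elem h P) (k' := 1) (by decide)]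
  simp

theorem pre_ker [Finite G] (h : FinHyp z p) (P : Pre z p f y) :
    ∃ a0 : ZMod 2, ∀ a s, el z y a s = 1 ↔ (a = 0 ∧ s = 0) ∨ (a = a0 ∧ s = 1) := by
  have E := pre_elem h P
  let φ : Multiplicative (ZMod 2 × (ZMod 5 → ZMod 2)) →* G :=
    { toFun := fun v => el z y v.toAdd.1 v.toAdd.2
      map_one' := el_zero _ _
      map_mul' := fun u v => (E.el_mul _ _ _ _).symm }
  have hφ : ∀ a s, φ (Multiplicative.ofAdd (a, s)) = el z y a s := fun a s => rfl
  have hr : φ.range = U z p z := by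
    ext u
    rw [pre_mem h P]
    constructor
    · rintro ⟨v, rfl⟩
      exact ⟨_, _, rfl⟩
    · rintro ⟨a, s, rfl⟩
      exact ⟨Multiplicative.ofAdd (a, s), rfl⟩
  have h1 : Nat.card φ.ker = 2 := by
    have h2 := Subgroup.card_mul_index φ.ker
    rw [Subgroup.index_ker, hr, h.cardU] at h2
    have h3 : Nat.card (Multiplicative (ZMod 2 × (ZMod 5 → ZMod 2))) = 64 := by
      rw [Nat.card_eq_fintype_card]
      simp
    rw [h3] at h2
    omega
  obtain ⟨v, hv⟩ : ∃ v : φ.ker, v ≠ 1 := by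
    by_contra hcon
    push Not at hcon
    have : Subsingleton φ.ker := ⟨fun a b => by rw [hcon a, hcon b]⟩
    rw [Nat.card_of_subsingleton (1 : φ.ker)] at h1
    omega
  have h4 : ∀ w : φ.ker, w = 1 ∨ w = v := by
    intro w
    by_contra hcon
    push Not at hcon
    have h5 : Finset.card ({1, v, w} : Finset φ.ker) = 3 := by
      rw [Finset.card_eq_three]
      exact ⟨1, v, w, hv.symm, hcon.1.symm, hcon.2.symm, rfl⟩
    have : Fintype φ.ker := Fintype.ofFinite _
    have h6 := Finset.card_le_univ ({1, v, w} : Finset φ.ker)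
    rw [← Nat.card_eq_fintype_card, h1, h5] at h6
    omega
  obtain ⟨a0, s0, hv0⟩ : ∃ a0 s0, (v : Multiplicative (ZMod 2 × (ZMod 5 → ZMod 2))) =
    Multiplicative.ofAdd (a0, s0) := ⟨_, _, rfl⟩
  have h5 : el z y a0 s0 = 1 := by
    rw [← hφ, ← hv0]
    exact v.2
  have h6 : ∀ a s, el z y a s = 1 → (a = 0 ∧ s = 0) ∨ (a = a0 ∧ s = s0) := by
    intro a s has
    rcases h4 ⟨Multiplicative.ofAdd (a, s), has⟩ with h7 | h7
    · left
      have h8 : Multiplicative.ofAdd (a, s) = 1 := Subtype.ext_iff.mp h7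
      exact Prod.mk.inj (Multiplicative.ofAdd.injective h8)
    · right
      have h8 : Multiplicative.ofAdd (a, s) = (v : Multiplicative (ZMod 2 × (ZMod 5 → ZMod 2))) :=
        Subtype.ext_iff.mp h7
      rw [hv0] at h8
      exact Prod.mk.inj (Multiplicative.ofAdd.injective h8)
  have h7 : ¬ (a0 = 0 ∧ s0 = 0) := by
    rintro ⟨rfl, rfl⟩
    exact hv (Subtype.ext (by rw [hv0]; rfl))
  have h8 : el z y a0 (fun m => s0 (m - 1)) = 1 := by
    rw [← pre_conj h P, h5]
    group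
  have h9 : (fun m => s0 (m - 1)) = s0 := by
    rcases h6 _ _ h8 with ⟨h9, h10⟩ | h9
    · exfalso
      refine h7 ⟨h9, ?_⟩
      funext m
      have := congrFun h10 (m + 1)
      simpa using this
    · exact h9.2
  have h10 : ∀ s : ZMod 5 → ZMod 2, (fun m => s (m - 1)) = s → s = 0 ∨ s = 1 := by decide +kernel
  rcases h10 s0 h9 with h11 | h11
  · exfalso
    subst h11
    rcases zmod2 a0 with rfl | rfl
    · exact h7 ⟨rfl, rfl⟩
    · rw [el_x] at h5
      exact h.z_ne h5
  · subst h11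
    refine ⟨a0, fun a s => ⟨h6 a s, ?_⟩⟩
    rintro (⟨rfl, rfl⟩ | ⟨rfl, rfl⟩)
    · exact el_zero _ _
    · exact h5

omit [Group G] in
theorem sum_one_aux :
    (0 : ZMod 2) + ∑ i : ZMod 5, (1 : ZMod 5 → ZMod 2) i * (1 : ZMod 5 → ZMod 2) i = 1 := by decide

omit [Group G] in
theorem val_succ_mod (i : ZMod 5) : (i.val + 1) % 5 = (i + 1).val := by revert i; decide

/-- the construction, second part: the product of the five points is 1 -/
theorem exists_pre [Finite G] (h : FinHyp z p) :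
    ∃ f y, Pre z p f y ∧ f ^ 5 = 1 ∧ el z y 0 1 = 1 := by
  have h5 : Fact (Nat.Prime 5) := ⟨by norm_num⟩
  obtain ⟨⟨f, hfz⟩, hf⟩ := exists_prime_orderOf_dvd_card' (G := centralizer ({z} : Set G)) 5
    (by rw [h.cardC]; norm_num)
  rw [Subgroup.orderOf_mk] at hf
  have hfz' : f * z = z * f := (mem_centralizer_singleton_iff.mp hfz)
  have hf5 : f ^ 5 = 1 := by rw [← hf]; exact pow_orderOf_eq_one f
  obtain ⟨y0, hy0, hy1⟩ : ∃ y0, Adj z p z y0 ∧ f * y0 * f⁻¹ ≠ y0 := by
    by_contra hcon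
    push Not at hcon
    have h1 : f ∈ U z p z := by
      apply h.cent
      intro u hu
      have h2 : f ∈ centralizer ((U z p z : Subgroup G) : Set G) := by
        rw [U, centralizer_closure, mem_centralizer_iff]
        rintro u (rfl | hu)
        · exact hfz'.symm
        · have := hcon u hu
          rw [mul_inv_eq_iff_eq_mul] at this
          exact this.symm
      exact ((mem_centralizer_iff.mp h2) u hu).symm
    have h2 : orderOf f ∣ Nat.card (U z p z) := by
      have := _root_.orderOf_dvd_natCard (⟨f, h1⟩ : U z p z)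
      rwa [Subgroup.orderOf_mk] at this
    rw [hf, h.cardU] at h2
    norm_num at h2
  have hfn : ∀ n : ℕ, f ^ n * z * (f ^ n)⁻¹ = z := by
    intro n
    have h1 : Commute f z := hfz'
    rw [(h1.pow_left n).eq]
    group
  have key : ∀ y0, Adj z p z y0 → f * y0 * f⁻¹ ≠ y0 →
      Pre z p f (fun i => f ^ i.val * y0 * (f ^ i.val)⁻¹) := by
    intro y0 hy0 hy1
    refine ⟨hfz', fun i => ?_, fun i => ?_, ?_⟩
    · have e : f * (f ^ i.val * y0 * (f ^ i.val)⁻¹) * f⁻¹ = f ^ (i.val + 1) * y0 * (f ^ (i.val + 1))⁻¹ := by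
        rw [pow_succ']; group
      have h2 : f ^ (i.val + 1) = f ^ (i + 1).val := by
        rw [← val_succ_mod, ← pow_mod_orderOf, hf]
      rw [e, h2]
    · have h2 := hy0.conj (f ^ i.val)
      rwa [hfn] at h2
    · intro h2
      apply hy1
      have h3 : (1 : ZMod 5).val = 1 := rfl
      simpa only [h3, _root_.pow_one, _root_.ZMod.val_zero, _root_.pow_zero, _root_.one_mul, _root_.inv_one, _root_.mul_one] using h2.symm
  have hP := key y0 hy0 hy1
  obtain ⟨a0, ha0⟩ := pre_ker h hP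
  rcases zmod2 a0 with rfl | rfl
  · exact ⟨f, _, hP, hf5, (ha0 0 1).mpr (Or.inr ⟨rfl, rfl⟩)⟩
  · have hzz : f * (z * y0) * f⁻¹ = z * (f * y0 * f⁻¹) := by
      rw [← mul_assoc, hfz']; group
    have hQ := key (z * y0) (h.third hy0) (by
      rw [hzz]
      exact fun h2 => hy1 (mul_left_cancel h2))
    refine ⟨f, _, hQ, hf5, ?_⟩
    have E := pre_elem h hP
    have h2 := (ha0 1 1).mpr (Or.inr ⟨rfl, rfl⟩)
    have h3 : (fun i : ZMod 5 => f ^ i.val * (z * y0) * (f ^ i.val)⁻¹) =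
        fun i => tw z ((1 : ZMod 5 → ZMod 2) i) * (fun i : ZMod 5 => f ^ i.val * y0 * (f ^ i.val)⁻¹) (1 * i + 0) := by
      funext i
      have h4 := hfn i.val
      simp only [Pi.one_apply, tw_one, one_mul, add_zero]
      calc f ^ i.val * (z * y0) * (f ^ i.val)⁻¹
          = (f ^ i.val * z * (f ^ i.val)⁻¹) * (f ^ i.val * y0 * (f ^ i.val)⁻¹) := by group
        _ = _ := by rw [h4]
    rw [h3, el_aff E (k' := 1) (one_mul 1), sum_one_aux]
    exact h2

end pre

end FinHyp

end Cfsg.Agent.Classification.TitsFin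
end

-- part: Classification/TitsFin/FrameAct
section
/-!
# Existence of frames
-/

set_option autoImplicit false

namespace Cfsg.Agent.Classification.TitsFin

open Subgroup

theorem normal_five {C : Type*} [Group C] [Finite C] (hC : Nat.card C = 20) {f : C} (hf : f ^ 5 = 1)
    (hf1 : f ≠ 1) (g : C) : ∃ n : ℕ, g * f * g⁻¹ = f ^ n := by
  have h5 : Fact (Nat.Prime 5) := ⟨by norm_num⟩
  have ho : orderOf f = 5 := orderOf_eq_prime hf hf1
  have hp : IsPGroup 5 (zpowers f) := IsPGroup.of_card (n := 1) (by rw [Nat.card_zpowers, ho, pow_one])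
  obtain ⟨P, hP⟩ := hp.exists_le_sylow
  have hPc : Nat.card P = 5 := by
    rw [P.card_eq_multiplicity, hC]
    have : Nat.factorization 20 5 = 1 := by
      rw [show (20 : ℕ) = 5 * 4 by norm_num, Nat.factorization_mul (by norm_num) (by norm_num),
        Finsupp.add_apply, Nat.Prime.factorization_self (by norm_num),
        Nat.factorization_eq_zero_of_not_dvd (by norm_num)]
    rw [this, pow_one]
  have hPe : zpowers f = (P : Subgroup C) := by
    apply Subgroup.eq_of_le_of_card_ge hP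
    rw [Nat.card_zpowers, ho]
    exact hPc.le
  have hidx : (P : Subgroup C).index = 4 := by
    have := (P : Subgroup C).card_mul_index
    rw [show Nat.card (P : Subgroup C) = 5 from hPc, hC] at this
    omega
  have h1 := P.card_dvd_index
  have h2 := card_sylow_modEq_one 5 C
  rw [hidx] at h1
  have h3 : Nat.card (Sylow 5 C) = 1 := by
    have h4 := Nat.le_of_dvd (by norm_num) h1
    have h5 : Nat.card (Sylow 5 C) % 5 = 1 := h2
    interval_cases h : Nat.card (Sylow 5 C) <;> omega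
  have : Subsingleton (Sylow 5 C) := (Nat.card_eq_one_iff_unique.mp h3).1
  have hn : (P : Subgroup C).Normal := P.normal_of_subsingleton
  have h6 : g * f * g⁻¹ ∈ zpowers f := by
    rw [hPe]
    exact hn.conj_mem f (hPe ▸ mem_zpowers f) g
  rw [mem_zpowers_iff] at h6
  obtain ⟨k, hk⟩ := h6
  refine ⟨(k % 5).toNat, ?_⟩
  rw [← hk, ← zpow_natCast, Int.toNat_of_nonneg (Int.emod_nonneg k (by norm_num)), ← zpow_mod_orderOf, ho]
  rfl

namespace FinHyp

variable {G : Type*} [Group G] [Finite G] {z p f : G} {y : ZMod 5 → G}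

theorem pre_inQ (h : FinHyp z p) (P : Pre z p f y) (g : G) :
    InQ z p z g ↔ g * z = z * g ∧ ∀ i, g * y i * g⁻¹ = y i ∨ g * y i * g⁻¹ = z * y i := by
  constructor
  · rintro ⟨h1, h2⟩
    exact ⟨h1, fun i => h2 _ (P.adj i)⟩
  · rintro ⟨h1, h2⟩
    refine ⟨h1, fun w hw => ?_⟩
    obtain ⟨i, rfl | rfl⟩ := (pre_adj_iff h P w).mp hw
    · exact h2 i
    · have e : g * (z * y i) * g⁻¹ = z * (g * y i * g⁻¹) := by
        rw [← mul_assoc, h1]; group
      rcases h2 i with h3 | h3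
      · left; rw [e, h3]
      · right; rw [e, h3]

omit [Finite G] in
theorem tw_unique (h : FinHyp z p) (P : Pre z p f y) {i j : ZMod 5} {a b : ZMod 2}
    (h1 : tw z a * y i = tw z b * y j) : i = j ∧ a = b := by
  rcases zmod2 a with rfl | rfl <;> rcases zmod2 b with rfl | rfl
  · simp only [tw_zero, one_mul] at h1
    exact ⟨pre_inj P h1, rfl⟩
  · simp only [tw_zero, one_mul, tw_one] at h1
    exact (pre_ne h P h1).elim
  · simp only [tw_zero, one_mul, tw_one] at h1
    exact (pre_ne h P h1.symm).elim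
  · simp only [tw_one] at h1
    exact ⟨pre_inj P (mul_left_cancel h1), rfl⟩

theorem pre_conj_f (h : FinHyp z p) (P : Pre z p f y) {g : G} (hg : g * z = z * g) :
    ∃ n : ℕ, ∃ q, InQ z p z q ∧ g * f * g⁻¹ = f ^ n * q := by
  let C := centralizer ({z} : Set G)
  let K : Subgroup C :=
    { carrier := {g | InQ z p z (g : G)}
      one_mem' := ⟨by simp, fun w _ => Or.inl (by simp)⟩
      mul_mem' := by
        rintro ⟨a, ha⟩ ⟨b, hb⟩ h1 h2
        have ha' : a * z = z * a := mem_centralizer_singleton_iff.mp ha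
        have h1' : InQ z p z a := h1
        have h2' : InQ z p z b := h2
        refine ⟨?_, fun w hw => ?_⟩
        · show a * b * z = z * (a * b)
          rw [mul_assoc, h2'.1, ← mul_assoc, h1'.1, mul_assoc]
        · have e : (a * b) * w * (a * b)⁻¹ = a * (b * w * b⁻¹) * a⁻¹ := by group
          show (a * b) * w * (a * b)⁻¹ = w ∨ (a * b) * w * (a * b)⁻¹ = z * w
          rw [e]
          rcases h2'.2 w hw with h3 | h3
          · rw [h3]; exact h1'.2 w hw
          · rw [h3]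
            have e2 : a * (z * w) * a⁻¹ = z * (a * w * a⁻¹) := by
              rw [← mul_assoc, ha']; group
            rw [e2]
            rcases h1'.2 w hw with h4 | h4
            · right; rw [h4]
            · left; rw [h4, ← mul_assoc, h.z_sq, one_mul]
      inv_mem' := by
        rintro ⟨a, ha⟩ h1
        have ha' : a * z = z * a := mem_centralizer_singleton_iff.mp ha
        have h1' : InQ z p z a := h1
        have hai : a⁻¹ * z = z * a⁻¹ := by
          rw [inv_mul_eq_iff_eq_mul, ← mul_assoc, ha']; group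
        refine ⟨hai, fun w hw => ?_⟩
        show a⁻¹ * w * a⁻¹⁻¹ = w ∨ a⁻¹ * w * a⁻¹⁻¹ = z * w
        rcases h1'.2 w hw with h3 | h3
        · left
          nth_rewrite 1 [← h3]
          group
        · right
          have h4 : a⁻¹ * (a * w * a⁻¹) * a⁻¹⁻¹ = w := by group
          rw [h3] at h4
          have h5 : a⁻¹ * (z * w) * a⁻¹⁻¹ = z * (a⁻¹ * w * a⁻¹⁻¹) := by
            rw [← mul_assoc, hai]; group
          rw [h5] at h4
          have h6 : a⁻¹ * w * a⁻¹⁻¹ = z * (z * (a⁻¹ * w * a⁻¹⁻¹)) := by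
            rw [← mul_assoc, h.z_sq, one_mul]
          rw [h6, h4] }
  have hKmem : ∀ (a : G) (ha : a ∈ C), (⟨a, ha⟩ : C) ∈ K ↔ InQ z p z a := fun a ha => Iff.rfl
  have hKn : K.Normal := by
    refine ⟨?_⟩
    rintro ⟨a, ha⟩ h1 ⟨b, hb⟩
    have hb' : b * z = z * b := mem_centralizer_singleton_iff.mp hb
    have h2 : InQ z p (b * z * b⁻¹) (b * a * b⁻¹) := InQ.conj ((hKmem a ha).mp h1) b
    have h3 : b * z * b⁻¹ = z := by rw [hb']; group
    rw [h3] at h2
    exact h2
  have hKc : Nat.card K = 512 := by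
    rw [← h.cardQ]
    refine Nat.card_congr
      { toFun := fun k => ⟨k.1.1, k.2⟩
        invFun := fun g => ⟨⟨g.1, mem_centralizer_singleton_iff.mpr g.2.1⟩, g.2⟩
        left_inv := fun k => rfl
        right_inv := fun g => rfl }
  have hidx : Nat.card (C ⧸ K) = 20 := by
    have h1 := K.card_mul_index
    rw [hKc, h.cardC, Subgroup.index] at h1
    omega
  have hfC : f ∈ C := mem_centralizer_singleton_iff.mpr P.fz
  have hgC : g ∈ C := mem_centralizer_singleton_iff.mpr hg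
  have hf5 : ((⟨f, hfC⟩ : C) : C ⧸ K) ^ 5 = 1 := by
    rw [← QuotientGroup.mk_pow, QuotientGroup.eq_one_iff]
    show InQ z p z (f ^ 5)
    rw [pre_inQ h P]
    refine ⟨?_, fun i => ?_⟩
    · have h1 : Commute f z := P.fz
      exact (h1.pow_left 5).eq
    · left
      rw [pre_pow P]
      congr 1
      have : ((5 : ℕ) : ZMod 5) = 0 := by decide
      rw [this, add_zero]
  have hf1 : ((⟨f, hfC⟩ : C) : C ⧸ K) ≠ 1 := by
    rw [Ne, QuotientGroup.eq_one_iff]
    intro h1
    have h2 : InQ z p z f := h1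
    rw [pre_inQ h P] at h2
    rcases h2.2 0 with h3 | h3
    · rw [P.shift] at h3
      have := pre_inj P h3
      exact absurd this (by decide)
    · rw [P.shift] at h3
      exact pre_ne h P h3
  obtain ⟨n, hn⟩ := normal_five hidx hf5 hf1 ((⟨g, hgC⟩ : C) : C ⧸ K)
  have h2 : (((⟨f, hfC⟩ : C) ^ n)⁻¹ * ((⟨g, hgC⟩ : C) * ⟨f, hfC⟩ * (⟨g, hgC⟩ : C)⁻¹)) ∈ K := by
    rw [← QuotientGroup.eq_one_iff]
    simp only [QuotientGroup.mk_mul, QuotientGroup.mk_inv, QuotientGroup.mk_pow]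
    rw [hn, inv_mul_cancel]
  exact ⟨n, (f ^ n)⁻¹ * (g * f * g⁻¹), h2, by group⟩

theorem pre_act (h : FinHyp z p) (P : Pre z p f y) (hprod : el z y 0 1 = 1) {g : G} (hg : g * z = z * g) :
    ∃ k j : ZMod 5, ∃ e : ZMod 5 → ZMod 2, k ≠ 0 ∧ ∑ i, e i = 0 ∧
    ∀ i, g * y i * g⁻¹ = tw z (e i) * y (k * i + j) := by
  have hgz : g * z * g⁻¹ = z := by rw [hg]; group
  have h1 : ∀ i, ∃ m : ZMod 5, ∃ a : ZMod 2, g * y i * g⁻¹ = tw z a * y m := by
    intro i
    have h2 : Adj z p z (g * y i * g⁻¹) := by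
      have := (P.adj i).conj g
      rwa [hgz] at this
    obtain ⟨m, hm | hm⟩ := (pre_adj_iff h P _).mp h2
    · exact ⟨m, 0, by simpa only [_root_.Cfsg.Agent.Classification.TitsFin.tw_zero, _root_.one_mul] using hm⟩
    · exact ⟨m, 1, by simpa only [_root_.Cfsg.Agent.Classification.TitsFin.tw_one] using hm⟩
  choose σ e hσ using h1
  obtain ⟨n, q, hq, hn⟩ := pre_conj_f h P hg
  have h2 : ∀ i, σ (i + 1) = σ i + n := by
    intro i
    have e1 : g * y (i + 1) * g⁻¹ = (g * f * g⁻¹) * (g * y i * g⁻¹) * (g * f * g⁻¹)⁻¹ := by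
      rw [← P.shift]; group
    rw [hσ, hσ, hn] at e1
    have e2 : f ^ n * q * (tw z (e i) * y (σ i)) * (f ^ n * q)⁻¹ =
        f ^ n * (q * tw z (e i) * q⁻¹ * (q * y (σ i) * q⁻¹)) * (f ^ n)⁻¹ := by group
    have hqz : q * z * q⁻¹ = z := by rw [hq.1]; group
    have e3 : ∃ b : ZMod 2, q * y (σ i) * q⁻¹ = tw z b * y (σ i) := by
      rcases hq.2 _ (P.adj (σ i)) with h3 | h3
      · exact ⟨0, by simpa only [_root_.Cfsg.Agent.Classification.TitsFin.tw_zero, _root_.one_mul] using h3⟩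
      · exact ⟨1, by simpa only [_root_.Cfsg.Agent.Classification.TitsFin.tw_one] using h3⟩
    obtain ⟨b, hb⟩ := e3
    have e6 : tw z (e i) * (tw z b * y (σ i)) = tw z (e i + b) * y (σ i) := by
      rw [← mul_assoc, ← tw_add h.z_sq]
    rw [e2, hb, tw_conj, hqz, e6] at e1
    have e4 : f ^ n * (tw z (e i + b) * y (σ i)) * (f ^ n)⁻¹ = tw z (e i + b) * y (σ i + n) := by
      rw [← pre_pow P n (σ i)]
      have e5 := tw_conj (f ^ n) z (e i + b)
      rw [pre_pow_z P] at e5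
      nth_rewrite 2 [← e5]
      group
    rw [e4] at e1
    exact (tw_unique h P e1).1
  have h3 : ∀ m : ℕ, σ m = n * m + σ 0 := by
    intro m
    induction m with
    | zero => simp
    | succ m ih =>
      push_cast
      rw [h2, ih]
      ring
  have h4 : ∀ i, σ i = n * i + σ 0 := by
    intro i
    have := h3 i.val
    rwa [ZMod.natCast_zmod_val] at this
  have hn0 : (n : ZMod 5) ≠ 0 := by
    intro hn0
    have h5 : σ 1 = σ 0 := by rw [h4 1, hn0]; ring
    have h6 := hσ 1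
    have h7 := hσ 0
    rw [h5] at h6
    have h8 : y 1 = tw z (e 1 + e 0) * y 0 := by
      have h9 : g * y 1 * g⁻¹ = g * (tw z (e 1 + e 0) * y 0) * g⁻¹ := by
        have e5 := tw_conj g z (e 1 + e 0)
        rw [hgz] at e5
        calc g * y 1 * g⁻¹ = tw z (e 1) * y (σ 0) := h6
          _ = tw z (e 1) * (tw z (e 0) * tw z (e 0) * y (σ 0)) := by rw [tw_sq h.z_sq, one_mul]
          _ = tw z (e 1) * tw z (e 0) * (tw z (e 0) * y (σ 0)) := by group
          _ = tw z (e 1 + e 0) * (g * y 0 * g⁻¹) := by rw [tw_add h.z_sq, h7]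
          _ = (g * tw z (e 1 + e 0) * g⁻¹) * (g * y 0 * g⁻¹) := by rw [e5]
          _ = _ := by group
      exact mul_left_cancel (mul_right_cancel h9)
    have h9 : tw z (0 : ZMod 2) * y 1 = tw z (e 1 + e 0) * y 0 := by simpa using h8
    exact absurd (tw_unique h P h9).1 (by decide)
  refine ⟨n, σ 0, e, hn0, ?_, fun i => by rw [hσ, h4]⟩
  obtain ⟨a0, ha0⟩ := pre_ker h P
  have ha : a0 = 0 := by
    rcases (ha0 0 1).mp hprod with h5 | h5
    · exact absurd h5.2 (by decide)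
    · exact h5.1.symm
  subst ha
  have hk : ∀ k : ZMod 5, k ≠ 0 → ∃ k', k * k' = 1 := by decide
  obtain ⟨k', hk'⟩ := hk _ hn0
  have h5 : g * el z y 0 1 * g⁻¹ = 1 := by rw [hprod]; group
  rw [el_conj, hgz] at h5
  have h6 : (fun i => g * y i * g⁻¹) = fun i => tw z (e i) * y (n * i + σ 0) := by
    funext i
    rw [hσ, h4]
  rw [h6, el_aff (pre_elem h P) hk'] at h5
  rcases (ha0 _ _).mp h5 with h7 | h7
  · exact absurd (congrFun h7.2 0) (by
      show ¬ ((1 : ZMod 2) = 0)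
      decide)
  · simpa using h7.1

theorem pre_cent (h : FinHyp z p) (P : Pre z p f y) {g : G} (hg : g * z = z * g)
    (hy : ∀ i, g * y i = y i * g) : g ∈ U z p z := by
  apply h.cent
  intro u hu
  obtain ⟨a, s, rfl⟩ := (pre_mem h P u).mp hu
  have h1 := el_conj g z y a s
  have h2 : g * z * g⁻¹ = z := by rw [hg]; group
  have h3 : (fun i => g * y i * g⁻¹) = y := by
    funext i
    rw [hy]; group
  rw [h2, h3, mul_inv_eq_iff_eq_mul] at h1
  exact h1

theorem card_T : Nat.card ({k : ZMod 5 // k ≠ 0} × ZMod 5 × {e : ZMod 5 → ZMod 2 // ∑ i, e i = 0}) = 320 := by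
  rw [Nat.card_prod, Nat.card_prod, Nat.card_eq_fintype_card, Nat.card_eq_fintype_card,
    Nat.card_eq_fintype_card]
  have h1 : Fintype.card {k : ZMod 5 // k ≠ 0} = 4 := by decide
  have h2 : Fintype.card {e : ZMod 5 → ZMod 2 // ∑ i, e i = 0} = 16 := by decide +kernel
  rw [h1, h2, ZMod.card]

theorem pre_real (h : FinHyp z p) (P : Pre z p f y) (hprod : el z y 0 1 = 1) (k j : ZMod 5)
    (e : ZMod 5 → ZMod 2) (hk : k ≠ 0) (he : ∑ i, e i = 0) : ∃ g, g * z = z * g ∧
    ∀ i, g * y i * g⁻¹ = tw z (e i) * y (k * i + j) := by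
  classical
  let C := centralizer ({z} : Set G)
  let T := {k : ZMod 5 // k ≠ 0} × ZMod 5 × {e : ZMod 5 → ZMod 2 // ∑ i, e i = 0}
  have h1 : ∀ c : C, ∃ t : T, ∀ i, (c : G) * y i * (c : G)⁻¹ = tw z (t.2.2.1 i) * y (t.1.1 * i + t.2.1) := by
    intro c
    obtain ⟨k, j, e, h1, h2, h3⟩ := pre_act h P hprod (mem_centralizer_singleton_iff.mp c.2)
    exact ⟨⟨⟨k, h1⟩, j, ⟨e, h2⟩⟩, h3⟩
  choose Ψ hΨ using h1
  have : Fintype C := Fintype.ofFinite C
  have h2 : (Finset.univ : Finset C).card ≤ 32 * (Finset.univ.image Ψ).card := by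
    refine Finset.card_le_mul_card_image _ _ fun t ht => ?_
    obtain ⟨c0, _, hc0⟩ := Finset.mem_image.mp ht
    have : Fintype (U z p z) := Fintype.ofFinite _
    have h3 : Fintype.card (U z p z) = 32 := by rw [← Nat.card_eq_fintype_card, h.cardU]
    rw [← h3, ← Finset.card_univ]
    have h4 : ∀ c : C, Ψ c = t → (c0 : G)⁻¹ * c ∈ U z p z := by
      intro c hc
      have c1 : (c0 : G) * z = z * c0 := mem_centralizer_singleton_iff.mp c0.2
      have c2 : (c : G) * z = z * c := mem_centralizer_singleton_iff.mp c.2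
      apply pre_cent h P
      · rw [mul_assoc, c2, ← mul_assoc, ← mul_assoc]
        congr 1
        rw [inv_mul_eq_iff_eq_mul, ← mul_assoc, c1]
        group
      · intro i
        have e1 := hΨ c0 i
        have e2 := hΨ c i
        rw [hc, ← hc0, ← e1] at e2
        have e3 : (c0 : G)⁻¹ * ((c : G) * y i * (c : G)⁻¹) * c = (c0 : G)⁻¹ * c * y i := by group
        rw [← e3, e2]
        group
    refine Finset.card_le_card_of_injOn
      (fun c => if hc : Ψ c = t then (⟨(c0 : G)⁻¹ * c, h4 c hc⟩ : U z p z) else 1) (fun c _ => Finset.mem_univ _) ?_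
    intro c hc d hd hcd
    have hc' : Ψ c = t := (Finset.mem_filter.mp hc).2
    have hd' : Ψ d = t := (Finset.mem_filter.mp hd).2
    simp only [dif_pos hc', dif_pos hd'] at hcd
    exact Subtype.ext (mul_left_cancel (Subtype.ext_iff.mp hcd))
  have h3 : (Finset.univ : Finset C).card = 10240 := by
    rw [Finset.card_univ, ← Nat.card_eq_fintype_card, h.cardC]
  have h4 : Fintype.card T = 320 := by rw [← Nat.card_eq_fintype_card, card_T]
  have h5 : Finset.univ.image Ψ = Finset.univ := by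
    rw [← Finset.card_eq_iff_eq_univ]
    have := Finset.card_le_univ (Finset.univ.image Ψ)
    omega
  have h6 : (⟨⟨k, hk⟩, j, ⟨e, he⟩⟩ : T) ∈ Finset.univ.image Ψ := by rw [h5]; exact Finset.mem_univ _
  obtain ⟨c, _, hc⟩ := Finset.mem_image.mp h6
  refine ⟨c, mem_centralizer_singleton_iff.mp c.2, fun i => ?_⟩
  rw [hΨ c i, hc]

theorem exists_frame_z (h : FinHyp z p) : ∃ y, Frame z p z y := by
  obtain ⟨f, y, P, _, hprod⟩ := exists_pre h
  obtain ⟨a0, ha0⟩ := pre_ker h P
  have ha : a0 = 0 := by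
    rcases (ha0 0 1).mp hprod with h5 | h5
    · exact absurd h5.2 (by decide)
    · exact h5.1.symm
  subst ha
  exact ⟨y, { toElem := pre_elem h P
              adj := pre_adj_iff h P
              prod := hprod
              inj := fun a s has => by
                rcases (ha0 a s).mp has with h5 | h5
                · exact ⟨h5.1, Or.inl h5.2⟩
                · exact ⟨h5.1, Or.inr h5.2⟩
              mem := pre_mem h P
              act := fun g hg => pre_act h P hprod hg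
              real := fun k j e hk he => pre_real h P hprod k j e hk he
              cent := fun g hg hy => pre_cent h P hg hy }⟩

end FinHyp

/-- frames are conjugation invariant -/
theorem Frame.conj {G : Type*} [Group G] {z p x : G} {y : ZMod 5 → G} (F : Frame z p x y) (g : G) :
    Frame z p (g * x * g⁻¹) (fun i => g * y i * g⁻¹) := by
  have hm : ∀ u v : G, g * u * g⁻¹ * (g * v * g⁻¹) = g * (u * v) * g⁻¹ := fun u v => by group
  have hc : ∀ k : G, k * (g * x * g⁻¹) = (g * x * g⁻¹) * k → (g⁻¹ * k * g) * x = x * (g⁻¹ * k * g) := by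
    intro k hk
    calc (g⁻¹ * k * g) * x = g⁻¹ * (k * (g * x * g⁻¹)) * g := by group
      _ = g⁻¹ * ((g * x * g⁻¹) * k) * g := by rw [hk]
      _ = _ := by group
  refine { toElem := ⟨?_, fun i => ?_, fun i => ?_, fun i j => ?_⟩, adj := fun w => ?_, prod := ?_,
           inj := fun a s has => ?_, mem := fun u => ?_, act := fun k hk => ?_,
           real := fun k j e hk he => ?_, cent := fun k hk hy => ?_ }
  · rw [hm, F.xx]; group
  · rw [hm, F.yy]; group
  · rw [hm, hm, F.xy]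
  · rw [hm, hm, F.yc]
  · rw [← adj_iff_of_conj (g := g⁻¹) (x' := x) (y' := g⁻¹ * w * g) (by group) (by group), F.adj]
    constructor
    · rintro ⟨i, hi | hi⟩
      · exact ⟨i, Or.inl (by rw [← hi]; group)⟩
      · refine ⟨i, Or.inr ?_⟩
        rw [hm, ← hi]; group
    · rintro ⟨i, hi | hi⟩
      · exact ⟨i, Or.inl (by rw [hi]; group)⟩
      · refine ⟨i, Or.inr ?_⟩
        rw [hi, hm]; group
  · rw [← el_conj, F.prod]; group
  · rw [← el_conj] at has
    apply F.inj
    have h1 := congrArg (fun v => g⁻¹ * v * g) has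
    simpa [mul_assoc] using h1
  · have h1 : u = g * (g⁻¹ * u * g) * g⁻¹ := by group
    rw [h1, conj_mem_U, F.mem]
    constructor
    · rintro ⟨a, s, h2⟩
      exact ⟨a, s, by rw [h2, el_conj]⟩
    · rintro ⟨a, s, h2⟩
      refine ⟨a, s, ?_⟩
      rw [← el_conj] at h2
      exact mul_left_cancel (mul_right_cancel h2)
  · obtain ⟨k', j, e, h1, h2, h3⟩ := F.act _ (hc k hk)
    refine ⟨k', j, e, h1, h2, fun i => ?_⟩
    rw [← tw_conj, hm, ← h3]
    group
  · obtain ⟨k', h1, h2⟩ := F.real k j e hk he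
    refine ⟨g * k' * g⁻¹, by rw [hm, hm, h1], fun i => ?_⟩
    have e1 : g * k' * g⁻¹ * (g * y i * g⁻¹) * (g * k' * g⁻¹)⁻¹ = g * (k' * y i * k'⁻¹) * g⁻¹ := by group
    rw [e1, h2, ← tw_conj, hm]
  · have h1 := F.cent (g⁻¹ * k * g) (hc k hk) (fun i => by
      calc (g⁻¹ * k * g) * y i = g⁻¹ * (k * (g * y i * g⁻¹)) * g := by group
        _ = g⁻¹ * ((g * y i * g⁻¹) * k) * g := by rw [hy]
        _ = _ := by group)
    have h2 : k = g * (g⁻¹ * k * g) * g⁻¹ := by group
    rw [h2, conj_mem_U]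
    exact h1

end Cfsg.Agent.Classification.TitsFin
end

-- part: Classification/TitsFin/LocalOne
section
/-!
# Local structure: the points `x` and `w` of a line
-/

set_option autoImplicit false

namespace Cfsg.Agent.Classification.TitsFin

open Subgroup

variable {G : Type*} [Group G]

/-- `x` is a point -/
def IsPt (z x : G) : Prop := ∃ g : G, g * z * g⁻¹ = x

/-- `v ∈ E_l - V_l` for the line `l = {x, w, xw}` -/
def TL (z p v x w : G) : Prop :=
  Adj z p x w ∧ v ∈ U z p x ∧ v ∈ U z p w ∧ v ≠ 1 ∧ v ≠ x ∧ v ≠ w ∧ v ≠ x * w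

theorem IsPt.conj {z x : G} (h : IsPt z x) (g : G) : IsPt z (g * x * g⁻¹) := by
  obtain ⟨k, hk⟩ := h
  exact ⟨g * k, by rw [← hk]; group⟩

/-! ### Coordinates -/

/-- symmetric about `m` -/
def Sy (m : ZMod 5) (s : ZMod 5 → ZMod 2) : Prop := ∀ i, s (2 * m - i) = s i

/-- orthogonal to `m` -/
def Fs (m : ZMod 5) (s : ZMod 5 → ZMod 2) : ZMod 2 := s (m + 1) + s (m + 2) + s (m + 3) + s (m + 4)

instance (m : ZMod 5) (s : ZMod 5 → ZMod 2) : Decidable (Sy m s) := by unfold Sy; infer_instance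

namespace Frame

variable {z p x : G} {y : ZMod 5 → G}

theorem el_inj (F : Frame z p x y) {a b : ZMod 2} {s t : ZMod 5 → ZMod 2}
    (h : el x y a s = el x y b t) : a = b ∧ (s = t ∨ s = t + 1) := by
  have h1 : el x y (a + b) (s + t) = 1 := by
    rw [← F.el_mul, h, F.el_sq]
  obtain ⟨h2, h3⟩ := F.inj _ _ h1
  have e1 : ∀ a b : ZMod 2, a + b = 0 → a = b := by decide
  have e2 : ∀ s t : ZMod 5 → ZMod 2, s + t = 0 → s = t := fun s t h => by
    funext i
    exact e1 _ _ (congrFun h i)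
  refine ⟨e1 _ _ h2, ?_⟩
  rcases h3 with h3 | h3
  · exact Or.inl (e2 _ _ h3)
  · right
    funext i
    have := congrFun h3 i
    have e3 : ∀ a b : ZMod 2, a + b = 1 → a = b + 1 := by decide
    exact e3 _ _ this

theorem el_add_one (F : Frame z p x y) (a : ZMod 2) (s : ZMod 5 → ZMod 2) :
    el x y a (s + 1) = el x y a s := by
  have h := F.el_mul a 0 s 1
  rw [F.prod, mul_one, add_zero] at h
  exact h.symm

theorem comm_U (F : Frame z p x y) {u v : G} (hu : u ∈ U z p x) (hv : v ∈ U z p x) : u * v = v * u := by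
  obtain ⟨a, s, rfl⟩ := (F.mem u).mp hu
  obtain ⟨b, t, rfl⟩ := (F.mem v).mp hv
  exact F.el_comm a b s t

theorem sq_U (F : Frame z p x y) {u : G} (hu : u ∈ U z p x) : u * u = 1 := by
  obtain ⟨a, s, rfl⟩ := (F.mem u).mp hu
  exact F.el_sq a s

theorem tw_y (F : Frame z p x y) (a : ZMod 2) (i : ZMod 5) :
    tw x a * y i = el x y a (Pi.single i 1) := by
  have h := F.el_mul a 0 0 (Pi.single i 1)
  rw [el_tw, el_single, add_zero, zero_add] at h
  exact h

theorem tw_unique (F : Frame z p x y) {i j : ZMod 5} {a b : ZMod 2}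
    (h : tw x a * y i = tw x b * y j) : i = j ∧ a = b := by
  rw [F.tw_y, F.tw_y] at h
  obtain ⟨h1, h2⟩ := F.el_inj h
  refine ⟨?_, h1⟩
  have e : ∀ i j : ZMod 5, ((Pi.single i 1 : ZMod 5 → ZMod 2) = Pi.single j 1 ∨
    (Pi.single i 1 : ZMod 5 → ZMod 2) = Pi.single j 1 + 1) → i = j := by decide +kernel
  exact e i j h2

theorem adj_y (F : Frame z p x y) (i : ZMod 5) : Adj z p x (y i) := (F.adj _).mpr ⟨i, Or.inl rfl⟩

theorem adj_tw (F : Frame z p x y) (a : ZMod 2) (i : ZMod 5) : Adj z p x (tw x a * y i) := by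
  rcases zmod2 a with rfl | rfl
  · simpa using F.adj_y i
  · exact (F.adj _).mpr ⟨i, Or.inr (by simp)⟩

theorem adj_iff (F : Frame z p x y) {w : G} : Adj z p x w ↔ ∃ a i, w = tw x a * y i := by
  constructor
  · intro h
    obtain ⟨i, hi | hi⟩ := (F.adj w).mp h
    · exact ⟨0, i, by simpa using hi⟩
    · exact ⟨1, i, by simpa using hi⟩
  · rintro ⟨a, i, rfl⟩
    exact F.adj_tw a i

theorem el_mem (F : Frame z p x y) (a : ZMod 2) (s : ZMod 5 → ZMod 2) : el x y a s ∈ U z p x :=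
  (F.mem _).mpr ⟨a, s, rfl⟩

/-- twisting a frame -/
theorem twist (F : Frame z p x y) {k : ZMod 5} (hk : k ≠ 0) (j : ZMod 5) {e : ZMod 5 → ZMod 2}
    (he : ∑ i, e i = 0) : Frame z p x (fun i => tw x (e i) * y (k * i + j)) := by
  obtain ⟨g, h1, h2⟩ := F.real k j e hk he
  have h3 := F.conj g
  have h4 : g * x * g⁻¹ = x := by rw [h1]; group
  have h5 : (fun i => g * y i * g⁻¹) = fun i => tw x (e i) * y (k * i + j) := funext h2
  rwa [h4, h5] at h3

/-- a frame with two given neighbours -/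
theorem exists_two (F : Frame z p x y) {w v : G} (hw : Adj z p x w) (hv : Adj z p x v) (h1 : v ≠ w)
    (h2 : v ≠ x * w) : ∃ y', Frame z p x y' ∧ y' 0 = w ∧ y' 1 = v := by
  obtain ⟨a, i, rfl⟩ := F.adj_iff.mp hw
  obtain ⟨b, j, rfl⟩ := F.adj_iff.mp hv
  have hij : j ≠ i := by
    rintro rfl
    rcases zmod2 a with rfl | rfl <;> rcases zmod2 b with rfl | rfl
    · exact h1 rfl
    · exact h2 (by simp)
    · exact h2 (by rw [tw_one, tw_zero, ← mul_assoc, F.xx])
    · exact h1 rfl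
  let e : ZMod 5 → ZMod 2 := ![a, b, a + b, 0, 0]
  have he : ∑ i, e i = 0 := by
    have : ∀ a b : ZMod 2, ∑ i : ZMod 5, (![a, b, a + b, 0, 0] : ZMod 5 → ZMod 2) i = 0 := by decide
    exact this a b
  refine ⟨_, F.twist (k := j - i) (sub_ne_zero.mpr hij) i he, ?_, ?_⟩
  · show tw x (e 0) * y ((j - i) * 0 + i) = _
    rw [mul_zero, zero_add]
    rfl
  · show tw x (e 1) * y ((j - i) * 1 + i) = _
    rw [mul_one, sub_add_cancel]
    rfl

theorem exists_one (F : Frame z p x y) {w : G} (hw : Adj z p x w) : ∃ y', Frame z p x y' ∧ y' 0 = w := by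
  obtain ⟨a, i, rfl⟩ := F.adj_iff.mp hw
  obtain ⟨y', h1, h2, _⟩ := F.exists_two (F.adj_tw a i) (F.adj_tw 0 (i + 1)) (by
    intro h
    have := (F.tw_unique h).1
    revert this
    have e : ∀ i : ZMod 5, i + 1 = i → False := by decide
    exact e i) (by
    intro h
    have h3 : tw x 0 * y (i + 1) = tw x (1 + a) * y i := by
      rw [h, tw_add F.xx, tw_one, mul_assoc]
    have := (F.tw_unique h3).1
    revert this
    have e : ∀ i : ZMod 5, i + 1 = i → False := by decide
    exact e i)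
  exact ⟨y', h1, h2⟩

theorem inQ_iff (F : Frame z p x y) {g : G} : InQ z p x g ↔
    g * x = x * g ∧ ∃ e : ZMod 5 → ZMod 2, ∑ i, e i = 0 ∧ ∀ i, g * y i * g⁻¹ = tw x (e i) * y i := by
  constructor
  · rintro ⟨h1, h2⟩
    refine ⟨h1, ?_⟩
    obtain ⟨k, j, e, hk, he, hy⟩ := F.act g h1
    have h3 : ∀ i, k * i + j = i := by
      intro i
      rcases h2 _ (F.adj_y i) with h4 | h4
      · have h5 : tw x (e i) * y (k * i + j) = tw x 0 * y i := by rw [← hy, h4, tw_zero, one_mul]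
        exact (F.tw_unique h5).1
      · have h5 : tw x (e i) * y (k * i + j) = tw x 1 * y i := by rw [← hy, h4, tw_one]
        exact (F.tw_unique h5).1
    exact ⟨e, he, fun i => by rw [hy, h3]⟩
  · rintro ⟨h1, e, he, hy⟩
    refine ⟨h1, fun w hw => ?_⟩
    obtain ⟨a, i, rfl⟩ := F.adj_iff.mp hw
    have h2 : g * x * g⁻¹ = x := by rw [h1]; group
    have h3 : g * (tw x a * y i) * g⁻¹ = tw x (e i) * (tw x a * y i) := by
      calc g * (tw x a * y i) * g⁻¹ = (g * tw x a * g⁻¹) * (g * y i * g⁻¹) := by group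
        _ = tw x a * (tw x (e i) * y i) := by rw [tw_conj, h2, hy]
        _ = _ := by rw [← mul_assoc, ← mul_assoc, ← tw_add F.xx, ← tw_add F.xx, add_comm]
    rcases zmod2 (e i) with h4 | h4
    · left; rw [h3, h4]; simp
    · right; rw [h3, h4]; simp

/-- an element of `Q_x` acts on `U_x` as a transvection with centre `x` -/
theorem inQ_act (F : Frame z p x y) {g u : G} (hg : InQ z p x g) (hu : u ∈ U z p x) :
    g * u * g⁻¹ = u ∨ g * u * g⁻¹ = x * u := by
  obtain ⟨h1, e, he, hy⟩ := F.inQ_iff.mp hg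
  obtain ⟨a, s, rfl⟩ := (F.mem u).mp hu
  have h2 : g * x * g⁻¹ = x := by rw [h1]; group
  have h3 : (fun i => g * y i * g⁻¹) = fun i => tw x (e i) * y (1 * i + 0) := by
    funext i
    rw [hy]
    simp
  rw [el_conj, h2, h3, el_aff F.toElem (mul_one 1)]
  have h4 : (fun m => s (1 * (m - 0))) = s := by funext m; simp
  rw [h4]
  rcases zmod2 (∑ i, e i * s i) with h5 | h5
  · left; rw [h5, add_zero]
  · right
    rw [h5, add_comm]
    have := F.el_mul 1 a 0 s
    rw [el_x, zero_add] at this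
    exact this.symm

theorem inQ_of_mem (F : Frame z p x y) {u : G} (hu : u ∈ U z p x) : InQ z p x u := by
  refine ⟨F.comm_U hu self_mem_U, fun w hw => Or.inl ?_⟩
  rw [F.comm_U hu (mem_U_of_adj hw)]
  group

theorem inQ_mul (F : Frame z p x y) {g k : G} (hg : InQ z p x g) (hk : InQ z p x k) :
    InQ z p x (g * k) := by
  obtain ⟨h1, e, he, hy⟩ := F.inQ_iff.mp hg
  obtain ⟨h2, e', he', hy'⟩ := F.inQ_iff.mp hk
  have hgx : g * x * g⁻¹ = x := by rw [h1]; group
  refine F.inQ_iff.mpr ⟨by rw [mul_assoc, h2, ← mul_assoc, h1, mul_assoc], e + e', ?_, fun i => ?_⟩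
  · simp only [Pi.add_apply, Finset.sum_add_distrib, he, he', add_zero]
  · calc g * k * y i * (g * k)⁻¹ = g * (k * y i * k⁻¹) * g⁻¹ := by group
      _ = (g * tw x (e' i) * g⁻¹) * (g * y i * g⁻¹) := by rw [hy']; group
      _ = tw x (e' i) * (tw x (e i) * y i) := by rw [tw_conj, hgx, hy]
      _ = _ := by rw [← mul_assoc, ← tw_add F.xx, Pi.add_apply, add_comm]

end Frame

/-! ### Two collinear points -/

namespace FinHyp

variable [Finite G] {z p x w y f g u v : G}

omit [Finite G] in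
theorem isPt_left (_h : FinHyp z p) (a : Adj z p x w) : IsPt z x := by
  obtain ⟨g, h1, _⟩ := a
  exact ⟨g, h1⟩

omit [Finite G] in
theorem isPt_right (h : FinHyp z p) (a : Adj z p x w) : IsPt z w := h.isPt_left (h.symm a)

theorem exists_frame (h : FinHyp z p) (hx : IsPt z x) : ∃ y, Frame z p x y := by
  obtain ⟨g, rfl⟩ := hx
  obtain ⟨y, hy⟩ := h.exists_frame_z
  exact ⟨_, hy.conj g⟩

theorem exists_frame_adj (h : FinHyp z p) (a : Adj z p x w) : ∃ y, Frame z p x y ∧ y 0 = w := by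
  obtain ⟨y, hy⟩ := h.exists_frame (h.isPt_left a)
  exact hy.exists_one a

theorem U_comm (h : FinHyp z p) (hx : IsPt z x) (hu : u ∈ U z p x) (hv : v ∈ U z p x) : u * v = v * u := by
  obtain ⟨y, hy⟩ := h.exists_frame hx
  exact hy.comm_U hu hv

theorem U_sq (h : FinHyp z p) (hx : IsPt z x) (hu : u ∈ U z p x) : u * u = 1 := by
  obtain ⟨y, hy⟩ := h.exists_frame hx
  exact hy.sq_U hu

theorem sq (h : FinHyp z p) (hx : IsPt z x) : x * x = 1 := h.U_sq hx self_mem_U

omit [Finite G] in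
theorem ne_one (h : FinHyp z p) (hx : IsPt z x) : x ≠ 1 := by
  obtain ⟨g, rfl⟩ := hx
  intro h1
  apply h.z_ne
  have h2 : z = g⁻¹ * (g * z * g⁻¹) * g := by group
  rw [h2, h1]; group

omit [Finite G] in
theorem ne (h : FinHyp z p) (a : Adj z p x w) : w ≠ x := by
  obtain ⟨g, h1, h2⟩ := a
  intro h3
  apply h.p_ne
  rw [← h1, ← h2] at h3
  exact mul_left_cancel (mul_right_cancel h3)

theorem cent_U (h : FinHyp z p) (hx : IsPt z x) (hg : ∀ u ∈ U z p x, g * u = u * g) : g ∈ U z p x := by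
  obtain ⟨y, hy⟩ := h.exists_frame hx
  exact hy.cent g (hg x self_mem_U) (fun i => hg _ (mem_U_of_adj (hy.adj_y i)))

omit [Finite G] in
theorem card_cent (h : FinHyp z p) (hx : IsPt z x) : Nat.card (centralizer ({x} : Set G)) = 10240 := by
  obtain ⟨g, rfl⟩ := hx
  rw [← h.cardC]
  have h1 : (centralizer ({z} : Set G)).map (MulAut.conj g).toMonoidHom =
      centralizer ({g * z * g⁻¹} : Set G) := by
    ext k
    rw [mem_centralizer_singleton_iff]
    constructor
    · rintro ⟨c, hc, rfl⟩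
      have hc' : c * z = z * c := mem_centralizer_singleton_iff.mp hc
      show g * c * g⁻¹ * (g * z * g⁻¹) = g * z * g⁻¹ * (g * c * g⁻¹)
      calc g * c * g⁻¹ * (g * z * g⁻¹) = g * (c * z) * g⁻¹ := by group
        _ = g * (z * c) * g⁻¹ := by rw [hc']
        _ = _ := by group
    · intro hk
      refine ⟨g⁻¹ * k * g, ?_, ?_⟩
      · show g⁻¹ * k * g ∈ centralizer ({z} : Set G)
        rw [mem_centralizer_singleton_iff]
        calc g⁻¹ * k * g * z = g⁻¹ * (k * (g * z * g⁻¹)) * g := by group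
          _ = g⁻¹ * ((g * z * g⁻¹) * k) * g := by rw [hk]
          _ = _ := by group
      · show g * (g⁻¹ * k * g) * g⁻¹ = k
        group
  rw [← h1]
  exact (Nat.card_congr ((centralizer ({z} : Set G)).equivMapOfInjective _
    (MulAut.conj g).injective).toEquiv).symm

theorem inQ_of_mem (h : FinHyp z p) (hx : IsPt z x) (hu : u ∈ U z p x) : InQ z p x u := by
  obtain ⟨y, hy⟩ := h.exists_frame hx
  exact hy.inQ_of_mem hu

theorem inQ_act (h : FinHyp z p) (hx : IsPt z x) (hg : InQ z p x g) (hu : u ∈ U z p x) :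
    g * u * g⁻¹ = u ∨ g * u * g⁻¹ = x * u := by
  obtain ⟨y, hy⟩ := h.exists_frame hx
  exact hy.inQ_act hg hu

theorem inQ_mul' (h : FinHyp z p) (hx : IsPt z x) (hg : InQ z p x g) (hk : InQ z p x u) :
    InQ z p x (g * u) := by
  obtain ⟨y, hy⟩ := h.exists_frame hx
  exact hy.inQ_mul hg hk

theorem F_comm (h : FinHyp z p) (a : Adj z p x w) (hu : u ∈ U z p x) (hu1 : InQ z p w u)
    (hv : v ∈ U z p w) (hv1 : InQ z p x v) : u * v = v * u := by
  have h1 := h.inQ_act (h.isPt_left a) hv1 hu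
  have h2 := h.inQ_act (h.isPt_right a) hu1 hv
  rcases h2 with h2 | h2
  · rw [mul_inv_eq_iff_eq_mul] at h2
    exact h2
  rcases h1 with h1 | h1
  · rw [mul_inv_eq_iff_eq_mul] at h1
    exact h1.symm
  · exfalso
    have hu2 := h.U_sq (h.isPt_left a) hu
    have hv2 := h.U_sq (h.isPt_right a) hv
    have hui : u⁻¹ = u := inv_eq_of_mul_eq_one_left hu2
    have hvi : v⁻¹ = v := inv_eq_of_mul_eq_one_left hv2
    rw [hui] at h2
    rw [hvi] at h1
    -- u v u = w v, v u v = x u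
    have h3 : w = u * v * u * v := by rw [h2, mul_assoc, hv2, mul_one]
    have h4 : x = v * u * v * u := by rw [h1, mul_assoc, hu2, mul_one]
    have h5 : w * x = 1 := by
      rw [h3, h4]
      calc u * v * u * v * (v * u * v * u) = u * v * (u * (v * v) * u) * v * u := by group
        _ = u * v * (u * u) * v * u := by rw [hv2, mul_one]
        _ = u * (v * v) * u := by rw [hu2]; group
        _ = 1 := by rw [hv2, mul_one, hu2]
    have h6 := h.sq (h.isPt_left a)
    exact h.ne a (mul_right_cancel (h5.trans h6.symm))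

/-- some element of `U_x` moves lines on `w` -/
theorem exists_not_inQ (h : FinHyp z p) (a : Adj z p x w) : ∃ u ∈ U z p x, ¬ InQ z p w u := by
  by_contra hcon
  push Not at hcon
  have key : ∀ x' w', Adj z p x' w' → ∀ u ∈ U z p x', InQ z p w' u := by
    intro x' w' a' u hu
    obtain ⟨g, h1, h2⟩ := a
    obtain ⟨k, h3, h4⟩ := a'
    have h5 : (k * g⁻¹) * x * (k * g⁻¹)⁻¹ = x' := by rw [← h1, ← h3]; group
    have h6 : (k * g⁻¹) * w * (k * g⁻¹)⁻¹ = w' := by rw [← h2, ← h4]; group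
    have h7 : u = (k * g⁻¹) * ((k * g⁻¹)⁻¹ * u * (k * g⁻¹)) * (k * g⁻¹)⁻¹ := by group
    rw [h7, ← h6, inQ_conj_iff]
    apply hcon
    rw [h7, ← h5, conj_mem_U] at hu
    exact hu
  obtain ⟨x0, y0, hx0, hy0, hne⟩ := h.ncomm
  exact hne (h.F_comm h.adj_zp (mem_U_of_adj hx0) (key z p h.adj_zp _ (mem_U_of_adj hx0))
    (mem_U_of_adj hy0) (key p z (h.symm h.adj_zp) _ (mem_U_of_adj hy0)))

/-- an element `u` of `U_x` acts on a frame at `w` in one of two ways -/
theorem act_cases (h : FinHyp z p) (a : Adj z p x w) (hu : u ∈ U z p x) {y' : ZMod 5 → G}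
    (F' : Frame z p w y') (h0 : y' 0 = x) : ∃ e : ZMod 5 → ZMod 2, e 0 = 0 ∧
      ((InQ z p w u ∧ ∑ i, e i = 0 ∧ ∀ i, u * y' i * u⁻¹ = tw w (e i) * y' i) ∨
      (¬ InQ z p w u ∧ (∀ i, e (-i) = e i) ∧ ∀ i, u * y' i * u⁻¹ = tw w (e i) * y' (-i))) := by
  have hux : u * x * u⁻¹ = x := by
    rw [h.U_comm (h.isPt_left a) hu self_mem_U]; group
  have huw : u * w = w * u := h.U_comm (h.isPt_left a) hu (mem_U_of_adj a)
  have huw' : u * w * u⁻¹ = w := by rw [huw]; group
  have hu2 := h.U_sq (h.isPt_left a) hu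
  obtain ⟨k, j, e, hk, he, hy⟩ := F'.act u huw
  have h1 : tw w (e 0) * y' (k * 0 + j) = tw w 0 * y' 0 := by
    rw [← hy, h0, hux, tw_zero, one_mul]
  obtain ⟨h2, h3⟩ := F'.tw_unique h1
  have hj : j = 0 := by simpa using h2
  subst hj
  simp only [add_zero] at hy
  have h4 : ∀ i, tw w (e i + e (k * i)) * y' (k * (k * i)) = tw w 0 * y' i := by
    intro i
    have h5 : u * (u * y' i * u⁻¹) * u⁻¹ = y' i := by
      calc u * (u * y' i * u⁻¹) * u⁻¹ = (u * u) * y' i * (u * u)⁻¹ := by group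
        _ = y' i := by rw [hu2]; group
    have h6 : u * (tw w (e i) * y' (k * i)) * u⁻¹ = (u * tw w (e i) * u⁻¹) * (u * y' (k * i) * u⁻¹) := by group
    rw [hy, h6, tw_conj, huw', hy, ← mul_assoc, ← tw_add F'.xx] at h5
    rw [h5, tw_zero, one_mul]
  have h5 := F'.tw_unique (h4 1)
  have hkk : k = 1 ∨ k = -1 := by
    have : ∀ k : ZMod 5, k * (k * 1) = 1 → k = 1 ∨ k = -1 := by decide
    exact this k h5.1
  refine ⟨e, h3, ?_⟩
  rcases hkk with rfl | rfl
  · left
    have hy' : ∀ i, u * y' i * u⁻¹ = tw w (e i) * y' i := fun i => by rw [hy, one_mul]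
    exact ⟨F'.inQ_iff.mpr ⟨huw, e, he, hy'⟩, he, hy'⟩
  · right
    have hy' : ∀ i, u * y' i * u⁻¹ = tw w (e i) * y' (-i) := fun i => by rw [hy, neg_one_mul]
    refine ⟨?_, ?_, hy'⟩
    · intro h6
      obtain ⟨_, e', _, h7⟩ := F'.inQ_iff.mp h6
      have h8 := hy' 1
      rw [h7] at h8
      have := (F'.tw_unique h8).1
      exact absurd this (by decide)
    · intro i
      have h6 := (F'.tw_unique (h4 i)).2
      rw [neg_one_mul] at h6
      have e1 : ∀ a b : ZMod 2, a + b = 0 → b = a := by decide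
      exact e1 _ _ h6

omit [Finite G] in
theorem conj_refl {y : ZMod 5 → G} (F : Frame z p x y) (hv : v * x = x * v) {e : ZMod 5 → ZMod 2}
    (hy : ∀ i, v * y i * v⁻¹ = tw x (e i) * y (-i)) (a : ZMod 2) (s : ZMod 5 → ZMod 2) :
    v * el x y a s * v⁻¹ = el x y (a + ∑ i, e i * s i) (fun m => s (-m)) := by
  have h2 : v * x * v⁻¹ = x := by rw [hv]; group
  have h3 : (fun i => v * y i * v⁻¹) = fun i => tw x (e i) * y (-1 * i + 0) := by
    funext i
    rw [hy]
    simp
  rw [el_conj, h2, h3, el_aff F.toElem (show (-1 : ZMod 5) * (-1) = 1 by decide)]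
  congr 1
  funext m
  simp

omit [Finite G] in
theorem conj_trans {y : ZMod 5 → G} (F : Frame z p x y) (hv : v * x = x * v) {e : ZMod 5 → ZMod 2}
    (hy : ∀ i, v * y i * v⁻¹ = tw x (e i) * y i) (a : ZMod 2) (s : ZMod 5 → ZMod 2) :
    v * el x y a s * v⁻¹ = el x y (a + ∑ i, e i * s i) s := by
  have h2 : v * x * v⁻¹ = x := by rw [hv]; group
  have h3 : (fun i => v * y i * v⁻¹) = fun i => tw x (e i) * y (1 * i + 0) := by
    funext i
    rw [hy]
    simp
  rw [el_conj, h2, h3, el_aff F.toElem (mul_one (1 : ZMod 5))]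
  congr 1
  funext m
  simp

/-- a reflection: an element of `U_w` moving lines on `x` -/
theorem exists_refl (h : FinHyp z p) {y : ZMod 5 → G} (F : Frame z p x y) :
    ∃ v ∈ U z p (y 0), ¬ InQ z p x v ∧ v * x = x * v ∧ ∃ e : ZMod 5 → ZMod 2, e 0 = 0 ∧
      (∀ i, e (-i) = e i) ∧ ∀ i, v * y i * v⁻¹ = tw x (e i) * y (-i) := by
  have a := h.symm (F.adj_y 0)
  obtain ⟨v, hv, hv1⟩ := h.exists_not_inQ a
  obtain ⟨e, he, h1 | h1⟩ := h.act_cases a hv F rfl
  · exact absurd h1.1 hv1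
  · exact ⟨v, hv, hv1, h.U_comm (h.isPt_left a) hv (mem_U_of_adj a), e, he, h1.2.1, h1.2.2⟩

theorem mem_U_zero (h : FinHyp z p) {y : ZMod 5 → G} (F : Frame z p x y) (a : ZMod 2)
    (s : ZMod 5 → ZMod 2) : el x y a s ∈ U z p (y 0) ↔ Sy 0 s := by
  obtain ⟨v, hv, _, hvx, e, he0, he, hy⟩ := h.exists_refl F
  have ha := h.symm (F.adj_y 0)
  have hw := h.isPt_left ha
  constructor
  · intro hu
    have h1 := conj_refl F hvx hy a s
    have h2 : v * el x y a s * v⁻¹ = el x y a s := by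
      rw [h.U_comm hw hv hu]; group
    rw [h2] at h1
    have h3 := (F.el_inj h1).2
    have e1 : ∀ s : ZMod 5 → ZMod 2, (s = (fun m => s (-m)) ∨ s = (fun m => s (-m)) + 1) → Sy 0 s := by
      decide +kernel
    exact e1 s h3
  · intro hs
    have hx : x ∈ U z p (y 0) := mem_U_of_adj ha
    have hxt : ∀ c, el x y c 0 ∈ U z p (y 0) := by
      intro c
      rw [el_tw]
      rcases zmod2 c with rfl | rfl
      · rw [tw_zero]; exact one_mem _
      · rw [tw_one]; exact hx
    have h1 : ∀ i, el x y (e i) (Pi.single i 1 + Pi.single (-i) 1) ∈ U z p (y 0) := by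
      intro i
      have h2 : y i * v * (y i)⁻¹ ∈ U z p (y 0) := by
        have h3 : y i * y 0 * (y i)⁻¹ = y 0 := by rw [F.yc]; group
        have h4 := (conj_mem_U (g := y i) (u := v) (x := y 0) (z := z) (p := p)).mpr hv
        rwa [h3] at h4
      have h3 : y i * v * (y i)⁻¹ * v⁻¹ ∈ U z p (y 0) := mul_mem h2 (inv_mem hv)
      have h4 : y i * v * (y i)⁻¹ * v⁻¹ = y i * (v * y i * v⁻¹)⁻¹ := by group
      rw [h4, hy, F.tw_y, F.el_inv] at h3
      have h5 : y i = el x y 0 (Pi.single i 1) := (el_single _ _ _).symm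
      rw [h5, F.el_mul, zero_add] at h3
      exact h3
    have h2 : ∀ i c, el x y c (Pi.single i 1 + Pi.single (-i) 1) ∈ U z p (y 0) := by
      intro i c
      have h3 := mul_mem (hxt (c + e i)) (h1 i)
      rw [F.el_mul, zero_add] at h3
      have e1 : ∀ c e : ZMod 2, c + e + e = c := by decide
      rwa [e1] at h3
    have h3 : ∀ c, el x y c (Pi.single 0 1) ∈ U z p (y 0) := by
      intro c
      have h4 := mul_mem (hxt c) (show y 0 ∈ U z p (y 0) from self_mem_U)
      have h5 : y 0 = el x y 0 (Pi.single 0 1) := (el_single _ _ _).symm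
      nth_rewrite 2 [h5] at h4
      rw [F.el_mul, zero_add, add_zero] at h4
      exact h4
    have e2 : ∀ s : ZMod 5 → ZMod 2, Sy 0 s → s = (if s 0 = 0 then 0 else Pi.single 0 1) +
        ((if s 1 = 0 then 0 else (Pi.single 1 1 + Pi.single (-1) 1)) +
        (if s 2 = 0 then 0 else (Pi.single 2 1 + Pi.single (-2) 1))) := by decide +kernel
    have h4 := e2 s hs
    rw [h4]
    have h5 : ∀ t t' : ZMod 5 → ZMod 2, (∀ c, el x y c t ∈ U z p (y 0)) →
        (∀ c, el x y c t' ∈ U z p (y 0)) → ∀ c, el x y c (t + t') ∈ U z p (y 0) := by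
      intro t t' h6 h7 c
      have := mul_mem (h6 c) (h7 0)
      rwa [F.el_mul, add_zero] at this
    refine h5 _ _ ?_ (h5 _ _ ?_ ?_) a
    · split_ifs
      · exact hxt
      · exact h3
    · split_ifs
      · exact hxt
      · exact h2 1
    · split_ifs
      · exact hxt
      · exact h2 2

omit [Finite G] in
/-- move the index `m` to `0` -/
theorem shift_frame {y : ZMod 5 → G} (F : Frame z p x y) (m : ZMod 5) (b : ZMod 2) :
    ∃ y', Frame z p x y' ∧ y' 0 = tw x b * y m ∧ ∀ a s, ∃ a', el x y a s = el x y' a' (fun i => s (i + m)) := by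
  let e : ZMod 5 → ZMod 2 := ![b, b, 0, 0, 0]
  have he : ∑ i, e i = 0 := by
    have : ∀ b : ZMod 2, ∑ i : ZMod 5, (![b, b, 0, 0, 0] : ZMod 5 → ZMod 2) i = 0 := by decide
    exact this b
  refine ⟨_, F.twist (k := 1) (by decide) m he, ?_, fun a s => ⟨a + ∑ i, e i * s (i + m), ?_⟩⟩
  · show tw x (e 0) * y (1 * 0 + m) = _
    rw [mul_zero, zero_add]
    rfl
  · rw [el_aff F.toElem (mul_one (1 : ZMod 5))]
    have e1 : ∀ a b : ZMod 2, a + b + b = a := by decide
    rw [e1]
    congr 1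
    funext i
    simp

theorem mem_U_iff (h : FinHyp z p) {y : ZMod 5 → G} (F : Frame z p x y) (m : ZMod 5) (b : ZMod 2)
    (a : ZMod 2) (s : ZMod 5 → ZMod 2) : el x y a s ∈ U z p (tw x b * y m) ↔ Sy m s := by
  obtain ⟨y', F', h0, h1⟩ := shift_frame F m b
  obtain ⟨a', ha'⟩ := h1 a s
  rw [ha', ← h0, h.mem_U_zero F']
  constructor
  · intro h2 i
    have := h2 (i - m)
    simp only at this
    convert this using 2 <;> ring
  · intro h2 i
    have := h2 (i + m)
    simp only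
    convert this using 2
    ring

theorem inQ_mul_iff (h : FinHyp z p) (a : Adj z p x w) (hu : u ∈ U z p x) (hv : v ∈ U z p x) :
    InQ z p w (u * v) ↔ (InQ z p w u ↔ InQ z p w v) := by
  obtain ⟨y', F', h0⟩ := h.exists_frame_adj (h.symm a)
  have key : ∀ {u : G}, u ∈ U z p x → ∃ σ : ZMod 5, ∃ e : ZMod 5 → ZMod 2, (InQ z p w u ↔ σ = 1) ∧
      (σ = 1 ∨ σ = -1) ∧ ∀ i, u * y' i * u⁻¹ = tw w (e i) * y' (σ * i) := by
    intro u hu
    obtain ⟨e, _, h1 | h1⟩ := h.act_cases a hu F' h0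
    · exact ⟨1, e, ⟨fun _ => rfl, fun _ => h1.1⟩, Or.inl rfl, fun i => by rw [one_mul]; exact h1.2.2 i⟩
    · exact ⟨-1, e, ⟨fun h2 => absurd h2 h1.1, fun h2 => absurd h2 (by decide)⟩, Or.inr rfl,
        fun i => by rw [neg_one_mul]; exact h1.2.2 i⟩
  obtain ⟨σ, e, h1, h2, h3⟩ := key hu
  obtain ⟨σ', e', h1', h2', h3'⟩ := key hv
  obtain ⟨σ'', e'', h1'', h2'', h3''⟩ := key (mul_mem hu hv)
  have huw : u * w * u⁻¹ = w := by
    rw [h.U_comm (h.isPt_left a) hu (mem_U_of_adj a)]; group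
  have h4 : tw w (e'' 1) * y' (σ'' * 1) = tw w (e' 1 + e (σ' * 1)) * y' (σ * (σ' * 1)) := by
    rw [← h3'']
    calc u * v * y' 1 * (u * v)⁻¹ = u * (v * y' 1 * v⁻¹) * u⁻¹ := by group
      _ = (u * tw w (e' 1) * u⁻¹) * (u * y' (σ' * 1) * u⁻¹) := by rw [h3']; group
      _ = _ := by rw [tw_conj, huw, h3, ← mul_assoc, ← tw_add F'.xx]
  have h5 := (F'.tw_unique h4).1
  rw [h1, h1', h1'']
  have e1 : ∀ σ σ' σ'' : ZMod 5, (σ = 1 ∨ σ = -1) → (σ' = 1 ∨ σ' = -1) → σ'' * 1 = σ * (σ' * 1) →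
    (σ'' = 1 ↔ (σ = 1 ↔ σ' = 1)) := by decide +kernel
  exact e1 σ σ' σ'' h2 h2' h5

theorem inQ_self (h : FinHyp z p) (a : Adj z p x w) : InQ z p w x :=
  h.inQ_of_mem (h.isPt_right a) (mem_U_of_adj (h.symm a))

theorem not_inQ_y (h : FinHyp z p) {y : ZMod 5 → G} (F : Frame z p x y) {i : ZMod 5} (hi : i ≠ 0) :
    ¬ InQ z p (y 0) (y i) := by
  intro h1
  obtain ⟨v, hv, hv1, hvx, e, he0, he, hy⟩ := h.exists_refl F
  have a := h.symm (F.adj_y 0)
  have hw := h.isPt_left a
  rcases h.inQ_act hw h1 hv with h2 | h2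
  · have h3 : tw x (e i) * y (-i) = tw x 0 * y i := by
      rw [← hy, tw_zero, one_mul, mul_inv_eq_iff_eq_mul]
      rw [mul_inv_eq_iff_eq_mul] at h2
      exact h2.symm
    have h4 := (F.tw_unique h3).1
    have e1 : ∀ i : ZMod 5, -i = i → i = 0 := by decide
    exact hi (e1 i h4)
  · have h3 : tw x (e i) * y (-i) = y 0 * y i := by
      rw [← hy, mul_inv_eq_iff_eq_mul]
      rw [mul_inv_eq_iff_eq_mul] at h2
      calc v * y i = y 0 * (y 0 * v * y i) := by
            rw [← mul_assoc, ← mul_assoc, F.yy, one_mul]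
        _ = y 0 * y i * v := by rw [← h2, mul_assoc]
    have h4 : el x y (e i) (Pi.single (-i) 1) = el x y 0 (Pi.single 0 1 + Pi.single i 1) := by
      have := F.el_mul 0 0 (Pi.single 0 1) (Pi.single i 1)
      rw [el_single, el_single, add_zero] at this
      rw [← this, ← h3, F.tw_y]
    have h5 := (F.el_inj h4).2
    have e1 : ∀ i : ZMod 5, ((Pi.single (-i) 1 : ZMod 5 → ZMod 2) = Pi.single 0 1 + Pi.single i 1 ∨
      (Pi.single (-i) 1 : ZMod 5 → ZMod 2) = Pi.single 0 1 + Pi.single i 1 + 1) → i = 0 := by decide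
    exact hi (e1 i h5)

theorem inQ_zero (h : FinHyp z p) {y : ZMod 5 → G} (F : Frame z p x y) (a : ZMod 2)
    (s : ZMod 5 → ZMod 2) : InQ z p (y 0) (el x y a s) ↔ Fs 0 s = 0 := by
  have ha := F.adj_y 0
  have h1 : InQ z p (y 0) x := h.inQ_self ha
  have h2 : InQ z p (y 0) (y 0) := h.inQ_of_mem (h.isPt_right ha) self_mem_U
  have h3 : InQ z p (y 0) (1 : G) := h.inQ_of_mem (h.isPt_right ha) (one_mem _)
  have h4 : ∀ i, i ≠ 0 → ∀ c : ZMod 2, (InQ z p (y 0) (tw (y i) c) ↔ c = 0) := by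
    intro i hi c
    rcases zmod2 c with rfl | rfl
    · simpa using h3
    · simpa only [_root_.Cfsg.Agent.Classification.TitsFin.tw_one, _root_.one_ne_zero, _root_.iff_false] using h.not_inQ_y F hi
  have h5 : ∀ c : ZMod 2, InQ z p (y 0) (tw x c) := by
    intro c
    rcases zmod2 c with rfl | rfl
    · simpa using h3
    · simpa using h1
  have h6 : ∀ c : ZMod 2, InQ z p (y 0) (tw (y 0) c) := by
    intro c
    rcases zmod2 c with rfl | rfl
    · simpa using h3
    · simpa using h2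
  have m1 : ∀ c, tw x c ∈ U z p x := by
    intro c
    rcases zmod2 c with rfl | rfl
    · simp
    · simpa using self_mem_U
  have m2 : ∀ i c, tw (y i) c ∈ U z p x := by
    intro i c
    rcases zmod2 c with rfl | rfl
    · simp
    · simpa using mem_U_of_adj (F.adj_y i)
  unfold el
  rw [h.inQ_mul_iff ha (m1 _) (mul_mem (m2 _ _) (mul_mem (m2 _ _) (mul_mem (m2 _ _) (mul_mem (m2 _ _) (m2 _ _))))),
    h.inQ_mul_iff ha (m2 _ _) (mul_mem (m2 _ _) (mul_mem (m2 _ _) (mul_mem (m2 _ _) (m2 _ _)))),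
    h.inQ_mul_iff ha (m2 _ _) (mul_mem (m2 _ _) (mul_mem (m2 _ _) (m2 _ _))),
    h.inQ_mul_iff ha (m2 _ _) (mul_mem (m2 _ _) (m2 _ _)),
    h.inQ_mul_iff ha (m2 _ _) (m2 _ _),
    h4 1 (by decide), h4 2 (by decide), h4 3 (by decide), h4 4 (by decide)]
  simp only [h5, h6, true_iff]
  unfold Fs
  simp only [zero_add]
  generalize s 1 = s1
  generalize s 2 = s2
  generalize s 3 = s3
  generalize s 4 = s4
  revert s1 s2 s3 s4
  decide

theorem inQ_iff (h : FinHyp z p) {y : ZMod 5 → G} (F : Frame z p x y) (m : ZMod 5) (b : ZMod 2)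
    (a : ZMod 2) (s : ZMod 5 → ZMod 2) : InQ z p (tw x b * y m) (el x y a s) ↔ Fs m s = 0 := by
  obtain ⟨y', F', h0, h1⟩ := shift_frame F m b
  obtain ⟨a', ha'⟩ := h1 a s
  rw [ha', ← h0, h.inQ_zero F']
  unfold Fs
  simp only [zero_add, add_comm m]

end FinHyp

end Cfsg.Agent.Classification.TitsFin
end

-- part: Classification/TitsFin/LocalTwo
section
/-!
# Local structure: the list of facts about two collinear points
-/

set_option autoImplicit false

namespace Cfsg.Agent.Classification.TitsFin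

open Subgroup

variable {G : Type*} [Group G]

namespace FinHyp

variable [Finite G] {z p x w y f g u v : G}

theorem mem_U_w (h : FinHyp z p) {y : ZMod 5 → G} (F : Frame z p x y) (h0 : y 0 = w) (a : ZMod 2)
    (s : ZMod 5 → ZMod 2) : el x y a s ∈ U z p w ↔ Sy 0 s := by
  have := h.mem_U_iff F 0 0 a s
  rwa [tw_zero, one_mul, h0] at this

theorem mem_U_xw (h : FinHyp z p) {y : ZMod 5 → G} (F : Frame z p x y) (h0 : y 0 = w) (a : ZMod 2)
    (s : ZMod 5 → ZMod 2) : el x y a s ∈ U z p (x * w) ↔ Sy 0 s := by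
  have := h.mem_U_iff F 0 1 a s
  rwa [tw_one, h0] at this

theorem inQ_w (h : FinHyp z p) {y : ZMod 5 → G} (F : Frame z p x y) (h0 : y 0 = w) (a : ZMod 2)
    (s : ZMod 5 → ZMod 2) : InQ z p w (el x y a s) ↔ Fs 0 s = 0 := by
  have := h.inQ_iff F 0 0 a s
  rwa [tw_zero, one_mul, h0] at this

theorem inQ_xw (h : FinHyp z p) {y : ZMod 5 → G} (F : Frame z p x y) (h0 : y 0 = w) (a : ZMod 2)
    (s : ZMod 5 → ZMod 2) : InQ z p (x * w) (el x y a s) ↔ Fs 0 s = 0 := by
  have := h.inQ_iff F 0 1 a s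
  rwa [tw_one, h0] at this

theorem mem_U_v (h : FinHyp z p) {y : ZMod 5 → G} (F : Frame z p x y) (h0 : y 1 = v) (a : ZMod 2)
    (s : ZMod 5 → ZMod 2) : el x y a s ∈ U z p v ↔ Sy 1 s := by
  have := h.mem_U_iff F 1 0 a s
  rwa [tw_zero, one_mul, h0] at this

theorem inQ_v (h : FinHyp z p) {y : ZMod 5 → G} (F : Frame z p x y) (h0 : y 1 = v) (a : ZMod 2)
    (s : ZMod 5 → ZMod 2) : InQ z p v (el x y a s) ↔ Fs 1 s = 0 := by
  have := h.inQ_iff F 1 0 a s
  rwa [tw_zero, one_mul, h0] at this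

theorem inQ_third (h : FinHyp z p) (a : Adj z p x w) (hu : u ∈ U z p x) :
    InQ z p (x * w) u ↔ InQ z p w u := by
  obtain ⟨y, F, h0⟩ := h.exists_frame_adj a
  obtain ⟨a, s, rfl⟩ := (F.mem u).mp hu
  rw [h.inQ_xw F h0, h.inQ_w F h0]

theorem mem_U_third (h : FinHyp z p) (a : Adj z p x w) (hu : u ∈ U z p x) :
    u ∈ U z p (x * w) ↔ u ∈ U z p w := by
  obtain ⟨y, F, h0⟩ := h.exists_frame_adj a
  obtain ⟨a, s, rfl⟩ := (F.mem u).mp hu
  rw [h.mem_U_xw F h0, h.mem_U_w F h0]

omit [Finite G] in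
theorem el_s1 (x : G) (y : ZMod 5 → G) : el x y 0 (Pi.single 1 1) = y 1 := el_single x y 1

/-- two lines on `x`: a frame -/
theorem exists_frame_two (h : FinHyp z p) (a : Adj z p x w) (b : Adj z p x v) (h1 : v ≠ w)
    (h2 : v ≠ x * w) : ∃ y', Frame z p x y' ∧ y' 0 = w ∧ y' 1 = v := by
  obtain ⟨y, hy⟩ := h.exists_frame (h.isPt_left a)
  exact hy.exists_two a b h1 h2

theorem not_inQ (h : FinHyp z p) (a : Adj z p x w) (b : Adj z p x y) (h1 : y ≠ w) (h2 : y ≠ x * w) :
    ¬ InQ z p w y := by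
  obtain ⟨y', F, h0, h3⟩ := h.exists_frame_two a b h1 h2
  rw [← h3, ← el_s1 x y', h.inQ_w F h0]
  decide

theorem inQ_mul (h : FinHyp z p) (a : Adj z p x w) (hu : u ∈ U z p x) (hv : v ∈ U z p x)
    (h1 : ¬ InQ z p w u) (h2 : ¬ InQ z p w v) : InQ z p w (u * v) := by
  rw [h.inQ_mul_iff a hu hv]
  simp [h1, h2]

omit [Finite G] in
theorem x_mul_el {y : ZMod 5 → G} (E : Elem x y) (a : ZMod 2) (s : ZMod 5 → ZMod 2) :
    x * el x y a s = el x y (a + 1) s := by
  have := E.el_mul 1 a 0 s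
  rwa [el_x, zero_add, add_comm] at this

/-- the action of the elements of `F_w - E` on a frame at `x` -/
theorem F_frame (h : FinHyp z p) {y : ZMod 5 → G} (F : Frame z p x y) (h0 : y 0 = w)
    (hf : f ∈ U z p w) (hf1 : InQ z p x f) (hf2 : f ∉ U z p x) :
    ∀ i, i ≠ 0 → f * y i * f⁻¹ = x * y i := by
  subst h0
  have a := h.symm (F.adj_y 0)
  obtain ⟨e, he0, h1 | h1⟩ := h.act_cases a hf F rfl
  · obtain ⟨_, he, hy⟩ := h1
    have hfx : f * x = x * f := hf1.1
    have hfx' : f * x * f⁻¹ = x := by rw [hfx]; group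
    -- f commutes with y i * y j for i, j ≠ 0
    have h2 : ∀ i j, i ≠ 0 → j ≠ 0 → i ≠ j → e i = e j := by
      intro i j hi hj hij
      have h3 : y i * y j = el x y 0 (Pi.single i 1 + Pi.single j 1) := by
        have := F.el_mul 0 0 (Pi.single i 1) (Pi.single j 1)
        rwa [el_single, el_single, add_zero] at this
      have h4 : InQ z p (y 0) (y i * y j) := by
        rw [h3, h.inQ_zero F]
        have : ∀ i j : ZMod 5, i ≠ 0 → j ≠ 0 → i ≠ j →
          Fs 0 (Pi.single i 1 + Pi.single j 1 : ZMod 5 → ZMod 2) = 0 := by decide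
        exact this i j hi hj hij
      have h5 := h.F_comm (F.adj_y 0) (mul_mem (mem_U_of_adj (F.adj_y i)) (mem_U_of_adj (F.adj_y j)))
        h4 hf hf1
      have h6 : f * (y i * y j) * f⁻¹ = y i * y j := by rw [← h5]; group
      have h7 : f * (y i * y j) * f⁻¹ = (f * y i * f⁻¹) * (f * y j * f⁻¹) := by group
      rw [h7, hy, hy, F.tw_y, F.tw_y, F.el_mul, h3] at h6
      have h8 := (F.el_inj h6).1
      have e1 : ∀ a b : ZMod 2, a + b = 0 → a = b := by decide
      exact e1 _ _ h8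
    intro i hi
    rcases zmod2 (e 1) with h3 | h3
    · exfalso
      apply hf2
      apply F.cent f hfx
      intro i
      have h4 : e i = 0 := by
        by_cases hi0 : i = 0
        · rw [hi0, he0]
        · by_cases hi1 : i = 1
          · rw [hi1, h3]
          · rw [h2 i 1 hi0 (by decide) hi1, h3]
      have h5 := hy i
      rw [h4, tw_zero, one_mul, mul_inv_eq_iff_eq_mul] at h5
      exact h5
    · have h4 : e i = 1 := by
        by_cases hi1 : i = 1
        · rw [hi1, h3]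
        · rw [h2 i 1 hi (by decide) hi1, h3]
      rw [hy, h4, tw_one]
  · exact absurd hf1 h1.1

theorem F_act (h : FinHyp z p) (a : Adj z p x w) (hf : f ∈ U z p w) (hf1 : InQ z p x f)
    (hf2 : f ∉ U z p x) (hv : v ∈ U z p x) (hv1 : ¬ InQ z p w v) : f * v * f⁻¹ = x * v := by
  obtain ⟨y, F, h0⟩ := h.exists_frame_adj a
  obtain ⟨a, s, rfl⟩ := (F.mem v).mp hv
  rw [h.inQ_w F h0] at hv1
  have h1 := h.F_frame F h0 hf hf1 hf2
  let e : ZMod 5 → ZMod 2 := fun i => if i = 0 then 0 else 1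
  have hw : IsPt z w := h0 ▸ h.isPt_right (F.adj_y 0)
  have hfw : f * w * f⁻¹ = w := by
    rw [h.U_comm hw hf self_mem_U, mul_inv_cancel_right]
  have h2 : ∀ i, f * y i * f⁻¹ = tw x (e i) * y i := by
    intro i
    by_cases hi : i = 0
    · subst hi
      show _ = tw x 0 * y 0
      rw [tw_zero, one_mul, h0, hfw]
    · rw [h1 i hi]
      show _ = tw x (if i = 0 then 0 else 1) * y i
      rw [if_neg hi, tw_one]
  rw [conj_trans F hf1.1 h2, x_mul_el F.toElem]
  congr 2
  have e2 : ∀ s : ZMod 5 → ZMod 2, ¬ Fs 0 s = 0 →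
    ∑ i : ZMod 5, (if i = 0 then 0 else 1) * s i = 1 := by decide +kernel
  exact e2 s hv1

theorem cent_eq (h : FinHyp z p) (a : Adj z p x w) (hu : u ∈ U z p w) (hu1 : ¬ InQ z p x u)
    (hv : v ∈ U z p x) (hc : u * v = v * u) : v ∈ U z p w := by
  obtain ⟨y, F, rfl⟩ := h.exists_frame_adj a
  obtain ⟨b, s, rfl⟩ := (F.mem v).mp hv
  obtain ⟨e, he0, h1 | h1⟩ := h.act_cases (h.symm a) hu F rfl
  · exact absurd h1.1 hu1
  · have hux : u * x = x * u := h.U_comm (h.isPt_right a) hu (mem_U_of_adj (h.symm a))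
    have h2 := conj_refl F hux h1.2.2 b s
    rw [hc, mul_inv_cancel_right] at h2
    rw [h.mem_U_zero F]
    have e1 : ∀ s : ZMod 5 → ZMod 2, (s = (fun m => s (-m)) ∨ s = (fun m => s (-m)) + 1) → Sy 0 s := by
      decide +kernel
    exact e1 s (F.el_inj h2).2

/-- coordinates for `E - V` -/
theorem tl_iff (h : FinHyp z p) {y : ZMod 5 → G} (F : Frame z p x y) (h0 : y 0 = w) (a : ZMod 2)
    (s : ZMod 5 → ZMod 2) : TL z p (el x y a s) x w ↔
      Sy 0 s ∧ s ≠ 0 ∧ s ≠ 1 ∧ s ≠ Pi.single 0 1 ∧ s ≠ Pi.single 0 1 + 1 := by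
  have hadj : Adj z p x w := h0 ▸ F.adj_y 0
  have k1 : el x y 0 0 = 1 := el_zero _ _
  have k2 : el x y 0 (Pi.single 0 1) = w := by rw [el_single, h0]
  have k3 : el x y 1 (Pi.single 0 1) = x * w := by
    have := x_mul_el F.toElem 0 (Pi.single 0 1)
    rw [zero_add] at this
    rw [← this, k2]
  have k4 : el x y 1 0 = x := el_x _ _
  constructor
  · rintro ⟨_, _, h2, h3, h4, h5, h6⟩
    rw [h.mem_U_w F h0] at h2
    have key : ∀ t, (s = t ∨ s = t + 1) → el x y a s = el x y a t := by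
      rintro t (rfl | rfl)
      · rfl
      · exact F.el_add_one a t
    refine ⟨h2, ?_, ?_, ?_, ?_⟩
    · rintro rfl
      rcases zmod2 a with rfl | rfl
      · exact h3 k1
      · exact h4 k4
    · intro h7
      have h8 := key 0 (Or.inr (by rw [h7, zero_add]))
      rcases zmod2 a with rfl | rfl
      · exact h3 (h8.trans k1)
      · exact h4 (h8.trans k4)
    · rintro rfl
      rcases zmod2 a with rfl | rfl
      · exact h5 k2
      · exact h6 k3
    · intro h7
      have h8 := key (Pi.single 0 1) (Or.inr h7)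
      rcases zmod2 a with rfl | rfl
      · exact h5 (h8.trans k2)
      · exact h6 (h8.trans k3)
  · rintro ⟨h1, h2, h3, h4, h5⟩
    refine ⟨hadj, F.el_mem a s, (h.mem_U_w F h0 a s).mpr h1, ?_, ?_, ?_, ?_⟩
    · intro h6
      rcases (F.inj _ _ h6).2 with h7 | h7
      · exact h2 h7
      · exact h3 h7
    · intro h6
      rcases (F.el_inj (h6.trans k4.symm)).2 with h7 | h7
      · exact h2 h7
      · exact h3 (by rw [h7, zero_add])
    · intro h6
      rcases (F.el_inj (h6.trans k2.symm)).2 with h7 | h7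
      · exact h4 h7
      · exact h5 h7
    · intro h6
      rcases (F.el_inj (h6.trans k3.symm)).2 with h7 | h7
      · exact h4 h7
      · exact h5 h7

theorem comm_TL (h : FinHyp z p) (a : Adj z p x w) (hu : u ∈ U z p w) (hu1 : ¬ InQ z p x u)
    (hv : v ∈ U z p x) (hv1 : ¬ InQ z p w v) : TL z p (u * v * u⁻¹ * v⁻¹) x w := by
  obtain ⟨y, F, rfl⟩ := h.exists_frame_adj a
  obtain ⟨b, s, rfl⟩ := (F.mem v).mp hv
  rw [h.inQ_zero F] at hv1
  obtain ⟨e, he0, h1 | h1⟩ := h.act_cases (h.symm a) hu F rfl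
  · exact absurd h1.1 hu1
  · have hux : u * x = x * u := h.U_comm (h.isPt_right a) hu (mem_U_of_adj (h.symm a))
    rw [conj_refl F hux h1.2.2 b s, F.el_inv, F.el_mul, h.tl_iff F rfl]
    have e1 : ∀ s : ZMod 5 → ZMod 2, ¬ Fs 0 s = 0 → Sy 0 ((fun m => s (-m)) + s) ∧
      (fun m => s (-m)) + s ≠ 0 ∧ (fun m => s (-m)) + s ≠ 1 ∧ (fun m => s (-m)) + s ≠ Pi.single 0 1 ∧
      (fun m => s (-m)) + s ≠ Pi.single 0 1 + 1 := by decide +kernel
    exact e1 s hv1

theorem TL_mul (h : FinHyp z p) (a : TL z p u x w) (b : TL z p v x w) :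
    u * v = 1 ∨ u * v = x ∨ u * v = w ∨ u * v = x * w := by
  obtain ⟨y, F, h0⟩ := h.exists_frame_adj a.1
  obtain ⟨c, s, rfl⟩ := (F.mem u).mp a.2.1
  obtain ⟨d, t, rfl⟩ := (F.mem v).mp b.2.1
  rw [h.tl_iff F h0] at a b
  rw [F.el_mul]
  have e1 : ∀ s t : ZMod 5 → ZMod 2, (Sy 0 s ∧ s ≠ 0 ∧ s ≠ 1 ∧ s ≠ Pi.single 0 1 ∧ s ≠ Pi.single 0 1 + 1) →
      (Sy 0 t ∧ t ≠ 0 ∧ t ≠ 1 ∧ t ≠ Pi.single 0 1 ∧ t ≠ Pi.single 0 1 + 1) →
      s + t = 0 ∨ s + t = 0 + 1 ∨ s + t = Pi.single 0 1 ∨ s + t = Pi.single 0 1 + 1 := by decide +kernel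
  have k2 : ∀ c, el x y c (Pi.single 0 1) = tw x c * w := by
    intro c
    rw [← F.tw_y, h0]
  have h1 : el x y (c + d) (s + t) = tw x (c + d) ∨ el x y (c + d) (s + t) = tw x (c + d) * w := by
    rcases e1 s t a b with h2 | h2 | h2 | h2 <;> rw [h2]
    · left; rw [el_tw]
    · left; rw [F.el_add_one, el_tw]
    · right; rw [k2]
    · right; rw [F.el_add_one, k2]
  rcases zmod2 (c + d) with h3 | h3 <;> rcases h1 with h2 | h2 <;> rw [h3] at h2 ⊢ <;> simp only [h2, _root_.Cfsg.Agent.Classification.TitsFin.tw_zero, _root_.true_or, _root_.one_mul, _root_.right_eq_mul, _root_.or_true, _root_.Cfsg.Agent.Classification.TitsFin.tw_one, _root_.left_eq_mul, _root_.mul_eq_left, _root_.mul_eq_right]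

theorem inter_two (h : FinHyp z p) (a : Adj z p x w) (b : Adj z p x y) (h1 : y ≠ w) (h2 : y ≠ x * w)
    (hu : u ∈ U z p x) (hu1 : u ∈ U z p w) (hu2 : u ∈ U z p y) : u = 1 ∨ u = x := by
  obtain ⟨y', F, h0, h3⟩ := h.exists_frame_two a b h1 h2
  obtain ⟨c, s, rfl⟩ := (F.mem u).mp hu
  rw [h.mem_U_w F h0] at hu1
  rw [h.mem_U_v F h3] at hu2
  have e1 : ∀ s : ZMod 5 → ZMod 2, Sy 0 s → Sy 1 s → s = 0 ∨ s = 0 + 1 := by decide +kernel
  have h4 : el x y' c s = tw x c := by
    rcases e1 s hu1 hu2 with h4 | h4 <;> rw [h4]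
    · rw [el_tw]
    · rw [F.el_add_one, el_tw]
  rw [h4]
  rcases zmod2 c with rfl | rfl <;> simp

theorem inter_gen (h : FinHyp z p) (a : Adj z p x w) (b : Adj z p x y) (h1 : y ≠ w) (h2 : y ≠ x * w)
    (hu : u ∈ U z p x) : ∃ v ∈ U z p x ⊓ U z p w, ∃ v' ∈ U z p x ⊓ U z p y, u = v * v' := by
  obtain ⟨y', F, h0, h3⟩ := h.exists_frame_two a b h1 h2
  obtain ⟨c, s, rfl⟩ := (F.mem u).mp hu
  have e1 : ∀ s : ZMod 5 → ZMod 2, ∃ t : ZMod 5 → ZMod 2, Sy 0 t ∧ Sy 1 (t + s) := by decide +kernel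
  obtain ⟨t, h4, h5⟩ := e1 s
  refine ⟨el x y' c t, ⟨F.el_mem _ _, (h.mem_U_w F h0 _ _).mpr h4⟩, el x y' 0 (t + s),
    ⟨F.el_mem _ _, (h.mem_U_v F h3 _ _).mpr h5⟩, ?_⟩
  rw [F.el_mul, add_zero]
  congr 1
  have e2 : ∀ s t : ZMod 5 → ZMod 2, s = t + (t + s) := by
    intro s t
    funext i
    have : ∀ a b : ZMod 2, a = b + (b + a) := by decide
    exact this _ _
  exact e2 s t

theorem inQ_of_two (h : FinHyp z p) (a : Adj z p x w) (b : Adj z p x y) (h1 : y ≠ w) (h2 : y ≠ x * w)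
    (hg : g * x = x * g) (hw : g * w * g⁻¹ = w ∨ g * w * g⁻¹ = x * w)
    (hy : g * y * g⁻¹ = y ∨ g * y * g⁻¹ = x * y) : InQ z p x g := by
  obtain ⟨y', F, h0, h3⟩ := h.exists_frame_two a b h1 h2
  subst h0 h3
  obtain ⟨k, j, e, hk, he, hy'⟩ := F.act g hg
  have h4 : k * 0 + j = 0 := by
    rcases hw with hw | hw
    · have h5 : tw x (e 0) * y' (k * 0 + j) = tw x 0 * y' 0 := by rw [← hy', hw, tw_zero, one_mul]
      exact (F.tw_unique h5).1
    · have h5 : tw x (e 0) * y' (k * 0 + j) = tw x 1 * y' 0 := by rw [← hy', hw, tw_one]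
      exact (F.tw_unique h5).1
  have h5 : k * 1 + j = 1 := by
    rcases hy with hw | hw
    · have h5 : tw x (e 1) * y' (k * 1 + j) = tw x 0 * y' 1 := by rw [← hy', hw, tw_zero, one_mul]
      exact (F.tw_unique h5).1
    · have h5 : tw x (e 1) * y' (k * 1 + j) = tw x 1 * y' 1 := by rw [← hy', hw, tw_one]
      exact (F.tw_unique h5).1
  have h6 : ∀ k j i : ZMod 5, k * 0 + j = 0 → k * 1 + j = 1 → k * i + j = i := by decide +kernel
  exact F.inQ_iff.mpr ⟨hg, e, he, fun i => by rw [hy', h6 k j i h4 h5]⟩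

theorem pair_unique (h : FinHyp z p) (a : Adj z p x w) (b : Adj z p x y) (h1 : y ≠ w) (h2 : y ≠ x * w)
    (hu : u ∈ U z p x) (hv : v ∈ U z p x)
    (u1 : InQ z p w u) (u2 : InQ z p y u) (u3 : u ∉ U z p w) (u4 : u ∉ U z p y)
    (v1 : InQ z p w v) (v2 : InQ z p y v) (v3 : v ∉ U z p w) (v4 : v ∉ U z p y) : u = v ∨ u = x * v := by
  obtain ⟨y', F, h0, h3⟩ := h.exists_frame_two a b h1 h2
  obtain ⟨c, s, rfl⟩ := (F.mem u).mp hu
  obtain ⟨d, t, rfl⟩ := (F.mem v).mp hv
  rw [h.inQ_w F h0] at u1 v1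
  rw [h.inQ_v F h3] at u2 v2
  rw [h.mem_U_w F h0] at u3 v3
  rw [h.mem_U_v F h3] at u4 v4
  have e1 : ∀ s : ZMod 5 → ZMod 2, Fs 0 s = 0 → Fs 1 s = 0 → ¬ Sy 0 s → ¬ Sy 1 s →
      s = (Pi.single 2 1 + Pi.single 4 1) ∨ s = (Pi.single 2 1 + Pi.single 4 1) + 1 := by decide +kernel
  have key : ∀ c s, (s = (Pi.single 2 1 + Pi.single 4 1) ∨ s = (Pi.single 2 1 + Pi.single 4 1) + 1) →
      el x y' c s = tw x c * el x y' 0 (Pi.single 2 1 + Pi.single 4 1) := by
    intro c s hs
    have h4 : tw x c * el x y' 0 (Pi.single 2 1 + Pi.single 4 1) = el x y' c (Pi.single 2 1 + Pi.single 4 1) := by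
      rw [← el_tw x y', F.el_mul, add_zero, zero_add]
    rw [h4]
    rcases hs with rfl | rfl
    · rfl
    · rw [F.el_add_one]
  rw [key c s (e1 s u1 u2 u3 u4), key d t (e1 t v1 v2 v3 v4)]
  rcases zmod2 c with rfl | rfl <;> rcases zmod2 d with rfl | rfl
  · left; rfl
  · right; rw [tw_one, ← mul_assoc, F.xx, tw_zero]
  · right; rw [tw_one, tw_zero, one_mul]
  · left; rfl

theorem F_mul (h : FinHyp z p) (a : Adj z p x w) (hf : f ∈ U z p w) (hf1 : InQ z p x f) (hf2 : f ∉ U z p x)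
    (hg : g ∈ U z p (x * w)) (hg1 : InQ z p x g) (hg2 : g ∉ U z p x) :
    f * g ∈ U z p x ∧ InQ z p w (f * g) ∧ f * g ∉ U z p w := by
  classical
  have hxw := h.third a
  have hxpt := h.isPt_left a
  have hwpt := h.isPt_right a
  have hxwpt := h.isPt_right hxw
  obtain ⟨y, F, h0⟩ := h.exists_frame_adj a
  obtain ⟨y', F', h0'⟩ := h.exists_frame_adj hxw
  have e1 : ∀ u ∈ U z p x, f * g * u = u * (f * g) := by
    intro u hu
    have hfi : ∀ v ∈ U z p x, f * v * f⁻¹ = (if InQ z p w v then v else x * v) := by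
      intro v hv
      split_ifs with hq
      · rw [← h.F_comm a hv hq hf hf1, mul_inv_cancel_right]
      · exact h.F_act a hf hf1 hf2 hv hq
    have hgi : ∀ v ∈ U z p x, g * v * g⁻¹ = (if InQ z p w v then v else x * v) := by
      intro v hv
      split_ifs with hq
      · rw [← h.F_comm hxw hv ((h.inQ_third a hv).mpr hq) hg hg1, mul_inv_cancel_right]
      · exact h.F_act hxw hg hg1 hg2 hv (fun hq' => hq ((h.inQ_third a hv).mp hq'))
    have h1 : f * g * u * (f * g)⁻¹ = u := by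
      have e2 : f * g * u * (f * g)⁻¹ = f * (g * u * g⁻¹) * f⁻¹ := by group
      rw [e2, hgi u hu]
      split_ifs with hq
      · rw [hfi u hu, if_pos hq]
      · have h3 : x * u ∈ U z p x := mul_mem self_mem_U hu
        rw [hfi _ h3]
        have h4 : ¬ InQ z p w (x * u) := by
          rw [h.inQ_mul_iff a self_mem_U hu]
          simp [h.inQ_self a, hq]
        rw [if_neg h4, ← mul_assoc, h.sq hxpt, one_mul]
    rw [mul_inv_eq_iff_eq_mul] at h1
    exact h1
  have h2 : f * g ∈ U z p x := h.cent_U hxpt e1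
  have hxw2 : (x * w) * x = w := by
    rw [h.adj_comm a, mul_assoc, h.sq hxpt, mul_one]
  -- g ∈ Q_w
  have h3 : InQ z p w g := by
    have := h.inQ_third (h.symm hxw) hg
    rw [hxw2] at this
    exact this.mpr hg1
  refine ⟨h2, h.inQ_mul' hwpt (h.inQ_of_mem hwpt hf) h3, fun h4 => hg2 ?_⟩
  have h5 : g ∈ U z p w := by
    have := mul_mem (inv_mem hf) h4
    rwa [inv_mul_cancel_left] at this
  have h6 := h.mem_U_third (h.symm hxw) hg
  rw [hxw2] at h6
  exact h6.mp h5

end FinHyp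

end Cfsg.Agent.Classification.TitsFin
end

-- part: Classification/TitsFin/LocalThree
section
/-!
# Local structure: involutions commuting with a point
-/

set_option autoImplicit false

namespace Cfsg.Agent.Classification.TitsFin

open Subgroup

variable {G : Type*} [Group G]

/-- `g` acts on the frame `y` at `x` as the reflection `i ↦ -i` with signs `e` -/
def Refl (x : G) (y : ZMod 5 → G) (g : G) (e : ZMod 5 → ZMod 2) : Prop :=
  g * x = x * g ∧ e 0 = 0 ∧ (∀ i, e (-i) = e i) ∧ ∀ i, g * y i * g⁻¹ = tw x (e i) * y (-i)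

/-- `g` acts on the frame `y` at `x` as a transvection with signs `e` -/
def Trv (x : G) (y : ZMod 5 → G) (g : G) (e : ZMod 5 → ZMod 2) : Prop :=
  g * x = x * g ∧ ∀ i, g * y i * g⁻¹ = tw x (e i) * y i

namespace FinHyp

variable [Finite G] {z p x w f g u v : G} {y : ZMod 5 → G} {e e' : ZMod 5 → ZMod 2}

omit [Finite G] in
theorem conj_tw (hg : g * x = x * g) (a : ZMod 2) : g * tw x a * g⁻¹ = tw x a := by
  rw [tw_conj, hg, mul_inv_cancel_right]

omit [Finite G] in
theorem Refl.mul (E : Elem x y) (h1 : Refl x y g e) (h2 : Refl x y u e') :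
    Trv x y (g * u) (e + e') := by
  refine ⟨by rw [mul_assoc, h2.1, ← mul_assoc, h1.1, mul_assoc], fun i => ?_⟩
  calc g * u * y i * (g * u)⁻¹ = g * (u * y i * u⁻¹) * g⁻¹ := by group
    _ = (g * tw x (e' i) * g⁻¹) * (g * y (-i) * g⁻¹) := by rw [h2.2.2.2]; group
    _ = tw x (e' i + e (-i)) * y i := by
        rw [conj_tw h1.1, h1.2.2.2, neg_neg, ← mul_assoc, ← tw_add E.xx]
    _ = _ := by rw [h1.2.2.1, Pi.add_apply, add_comm]

omit [Finite G] in
theorem Refl.mul_trv (E : Elem x y) (h1 : Refl x y g e) (h2 : Trv x y u e') (h0 : e' 0 = 0)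
    (hs : ∀ i, e' (-i) = e' i) : Refl x y (g * u) (e + e') := by
  refine ⟨by rw [mul_assoc, h2.1, ← mul_assoc, h1.1, mul_assoc], by simp [h0, h1.2.1],
    fun i => by simp [hs, h1.2.2.1], fun i => ?_⟩
  calc g * u * y i * (g * u)⁻¹ = g * (u * y i * u⁻¹) * g⁻¹ := by group
    _ = (g * tw x (e' i) * g⁻¹) * (g * y i * g⁻¹) := by rw [h2.2]; group
    _ = tw x (e' i + e i) * y (-i) := by
        rw [conj_tw h1.1, h1.2.2.2, ← mul_assoc, ← tw_add E.xx]
    _ = _ := by rw [Pi.add_apply, add_comm]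

omit [Finite G] in
theorem Trv.mem (F : Frame z p x y) (h1 : Trv x y g e) (h0 : ∀ i, e i = 0) : g ∈ U z p x := by
  apply F.cent g h1.1
  intro i
  have := h1.2 i
  rw [h0, tw_zero, one_mul, mul_inv_eq_iff_eq_mul] at this
  exact this

/-- elements of `U_w` moving lines on `x` are reflections -/
theorem refl_of (h : FinHyp z p) (F : Frame z p x y) (a : Adj z p x w) (hw : y 0 = w ∨ y 0 = x * w)
    (hu : u ∈ U z p w) (hu1 : ¬ InQ z p x u) : ∃ e, Refl x y u e := by
  have hux : u * x = x * u := h.U_comm (h.isPt_right a) hu (mem_U_of_adj (h.symm a))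
  have huw : u * w = w * u := h.U_comm (h.isPt_right a) hu self_mem_U
  have hu2 := h.U_sq (h.isPt_right a) hu
  have hc : u * y 0 * u⁻¹ = y 0 := by
    rcases hw with hw | hw <;> rw [hw]
    · rw [huw, mul_inv_cancel_right]
    · rw [← mul_assoc, hux, mul_assoc x, huw, ← mul_assoc, mul_inv_cancel_right]
  obtain ⟨k, j, e, hk, he, hy⟩ := F.act u hux
  have h1 : tw x (e 0) * y (k * 0 + j) = tw x 0 * y 0 := by
    rw [← hy, hc, tw_zero, one_mul]
  obtain ⟨h2, h3⟩ := F.tw_unique h1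
  have hj : j = 0 := by simpa using h2
  subst hj
  simp only [add_zero] at hy
  have h4 : ∀ i, tw x (e i + e (k * i)) * y (k * (k * i)) = tw x 0 * y i := by
    intro i
    have h5 : u * (u * y i * u⁻¹) * u⁻¹ = y i := by
      calc u * (u * y i * u⁻¹) * u⁻¹ = (u * u) * y i * (u * u)⁻¹ := by group
        _ = y i := by rw [hu2]; group
    have h6 : u * (tw x (e i) * y (k * i)) * u⁻¹ = (u * tw x (e i) * u⁻¹) * (u * y (k * i) * u⁻¹) := by group
    rw [hy, h6, conj_tw hux, hy, ← mul_assoc, ← tw_add F.xx] at h5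
    rw [h5, tw_zero, one_mul]
  have h5 := F.tw_unique (h4 1)
  have hkk : k = 1 ∨ k = -1 := by
    have : ∀ k : ZMod 5, k * (k * 1) = 1 → k = 1 ∨ k = -1 := by decide
    exact this k h5.1
  rcases hkk with rfl | rfl
  · exfalso
    apply hu1
    exact F.inQ_iff.mpr ⟨hux, e, he, fun i => by rw [hy, one_mul]⟩
  · refine ⟨e, hux, h3, fun i => ?_, fun i => by rw [hy, neg_one_mul]⟩
    have h6 := (F.tw_unique (h4 i)).2
    rw [neg_one_mul] at h6
    have e1 : ∀ a b : ZMod 2, a + b = 0 → b = a := by decide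
    exact e1 _ _ h6

/-- an involution acting like an element of `U_w` lies in `U_w` -/
theorem mem_of_same (h : FinHyp z p) (F : Frame z p x y) (a : Adj z p x w)
    (hu : u ∈ U z p w) (hu1 : ¬ InQ z p x u) (hr : Refl x y u e) (hg : Refl x y g e) (hg2 : g * g = 1) :
    g ∈ U z p w := by
  have hu2 := h.U_sq (h.isPt_right a) hu
  have h1 : u * g ∈ U z p x := by
    refine Trv.mem F (Refl.mul F.toElem hr hg) fun i => ?_
    rw [Pi.add_apply]
    have : ∀ a : ZMod 2, a + a = 0 := by decide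
    exact this _
  have h2 : u * (u * g) = (u * g) * u := by
    have h3 := h.U_sq (h.isPt_left a) h1
    -- (ug)(ug) = 1, g g = 1, u u = 1
    have h4 : u * g * u = g := by
      calc u * g * u = (u * g * (u * g)) * g⁻¹ := by group
        _ = g⁻¹ := by rw [h3, one_mul]
        _ = g := inv_eq_of_mul_eq_one_left hg2
    rw [h4, ← mul_assoc, hu2, one_mul]
  have h3 := h.cent_eq a hu hu1 h1 h2
  have h4 := mul_mem hu h3
  rwa [← mul_assoc, hu2, one_mul] at h4

/-- the signs `(0, 1, 1, 1, 1)` -/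
def nn : ZMod 5 → ZMod 2 := fun i => if i = 0 then 0 else 1

/-- `F_w - E` is not empty -/
theorem exists_F (h : FinHyp z p) (a : Adj z p x w) : ∃ f ∈ U z p w, InQ z p x f ∧ f ∉ U z p x := by
  obtain ⟨y, F, h0⟩ := h.exists_frame_adj (h.symm a)
  refine ⟨el w y 0 (Pi.single 1 1 + Pi.single 2 1), F.el_mem _ _, ?_, ?_⟩
  · rw [h.inQ_w F h0]; decide
  · rw [h.mem_U_w F h0]; decide

theorem trv_F (h : FinHyp z p) (F : Frame z p x y) (a : Adj z p x w) (hw : y 0 = w ∨ y 0 = x * w)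
    (hf : f ∈ U z p w) (hf1 : InQ z p x f) (hf2 : f ∉ U z p x) : Trv x y f nn := by
  refine ⟨hf1.1, fun i => ?_⟩
  have hx := h.isPt_left a
  have hfw : f * w * f⁻¹ = w := by
    rw [h.U_comm (h.isPt_right a) hf self_mem_U, mul_inv_cancel_right]
  have hfx : f * x * f⁻¹ = x := by rw [hf1.1, mul_inv_cancel_right]
  by_cases hi : i = 0
  · subst hi
    rw [show nn 0 = 0 from rfl, tw_zero, one_mul]
    rcases hw with hw | hw <;> rw [hw]
    · exact hfw
    · calc f * (x * w) * f⁻¹ = (f * x * f⁻¹) * (f * w * f⁻¹) := by group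
        _ = _ := by rw [hfw, hfx]
  · rw [show nn i = 1 from if_neg hi, tw_one]
    apply h.F_act a hf hf1 hf2 (mem_U_of_adj (F.adj_y i))
    have h1 := h.not_inQ_y F hi
    rcases hw with hw | hw
    · rwa [hw] at h1
    · rw [hw] at h1
      rwa [h.inQ_third a (mem_U_of_adj (F.adj_y i))] at h1

/-- both kinds of reflections in `U_w` -/
theorem exists_refls (h : FinHyp z p) (F : Frame z p x y) (a : Adj z p x w) (hw : y 0 = w ∨ y 0 = x * w) :
    ∃ e, (∃ u ∈ U z p w, ¬ InQ z p x u ∧ Refl x y u e) ∧ ∃ u ∈ U z p w, ¬ InQ z p x u ∧ Refl x y u (e + nn) := by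
  obtain ⟨u, hu, hu1⟩ := h.exists_not_inQ (h.symm a)
  obtain ⟨f, hf, hf1, hf2⟩ := h.exists_F a
  obtain ⟨e, he⟩ := h.refl_of F a hw hu hu1
  refine ⟨e, ⟨u, hu, hu1, he⟩, u * f, mul_mem hu hf, ?_, ?_⟩
  · rw [h.inQ_mul_iff (h.symm a) hu hf]
    simp [hu1, hf1]
  · exact Refl.mul_trv F.toElem he (h.trv_F F a hw hf hf1 hf2) rfl (by decide)

/-- the reflections of `U_w` and of `U_xw` have different signs -/
theorem refl_all (h : FinHyp z p) (F : Frame z p x y) {e : ZMod 5 → ZMod 2} (h0 : e 0 = 0)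
    (hs : ∀ i, e (-i) = e i) :
    (∃ u ∈ U z p (y 0), ¬ InQ z p x u ∧ Refl x y u e) ∨
      ∃ u ∈ U z p (x * y 0), ¬ InQ z p x u ∧ Refl x y u e := by
  have a := F.adj_y 0
  have b := h.third a
  have hx := h.isPt_left a
  have hx2 : y 0 = x * (x * y 0) := by rw [← mul_assoc, F.xx, one_mul]
  obtain ⟨e1, ⟨u1, h1, h2, h3⟩, ⟨u1', h1', h2', h3'⟩⟩ := h.exists_refls F a (Or.inl rfl)
  obtain ⟨e2, ⟨u2, h4, h5, h6⟩, ⟨u2', h4', h5', h6'⟩⟩ := h.exists_refls F b (Or.inr hx2)
  have key : ∀ {e u u'}, u ∈ U z p (y 0) → ¬ InQ z p x u → Refl x y u e → u' ∈ U z p (x * y 0) →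
      ¬ InQ z p x u' → Refl x y u' e → False := by
    intro e u u' k1 k2 k3 k4 k5 k6
    have k7 := h.mem_of_same F a k1 k2 k3 k6 (h.U_sq (h.isPt_right b) k4)
    apply k5
    have k8 := h.mem_U_third (h.symm a) k7
    rw [← h.adj_comm a] at k8
    exact h.inQ_of_mem hx (k8.mp k4)
  have n1 : e1 ≠ e2 := by
    rintro rfl
    exact key h1 h2 h3 h4 h5 h6
  have n2 : e1 ≠ e2 + nn := by
    rintro rfl
    exact key h1 h2 h3 h4' h5' h6'
  have e0 : ∀ e e1 e2 : ZMod 5 → ZMod 2, e 0 = 0 → (∀ i, e (-i) = e i) → e1 0 = 0 →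
      (∀ i, e1 (-i) = e1 i) → e2 0 = 0 → (∀ i, e2 (-i) = e2 i) → e1 ≠ e2 → e1 ≠ e2 + nn →
      e = e1 ∨ e = e1 + nn ∨ e = e2 ∨ e = e2 + nn := by
    intro e e1 e2 a1 a2 b1 b2 c1 c2 n1 n2
    have k : ∀ e : ZMod 5 → ZMod 2, e 0 = 0 → (∀ i, e (-i) = e i) →
        e = fun i => if i = 0 then 0 else if i = 1 ∨ i = 4 then e 1 else e 2 := by decide +kernel
    have a3 := k e a1 a2
    have b3 := k e1 b1 b2
    have c3 := k e2 c1 c2
    generalize e 1 = s1 at a3
    generalize e 2 = s2 at a3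
    generalize e1 1 = t1 at b3
    generalize e1 2 = t2 at b3
    generalize e2 1 = r1 at c3
    generalize e2 2 = r2 at c3
    subst a3 b3 c3
    revert n1 n2
    clear * -
    revert s1 s2 t1 t2 r1 r2
    decide +kernel
  rcases e0 e e1 e2 h0 hs h3.2.1 h3.2.2.1 h6.2.1 h6.2.2.1 n1 n2 with h7 | h7 | h7 | h7
  · left; exact ⟨u1, h1, h2, h7 ▸ h3⟩
  · left; exact ⟨u1', h1', h2', h7 ▸ h3'⟩
  · right; exact ⟨u2, h4, h5, h7 ▸ h6⟩
  · right; exact ⟨u2', h4', h5', h7 ▸ h6'⟩

omit [Finite G] in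
theorem tl_symm (h : FinHyp z p) (a : TL z p v x w) : TL z p v w x :=
  ⟨h.symm a.1, a.2.2.1, a.2.1, a.2.2.2.1, a.2.2.2.2.2.1, a.2.2.2.2.1, by
    rw [← h.adj_comm a.1]; exact a.2.2.2.2.2.2⟩

theorem tl_third (h : FinHyp z p) (a : TL z p v x w) : TL z p v x (x * w) := by
  refine ⟨h.third a.1, a.2.1, (h.mem_U_third a.1 a.2.1).mpr a.2.2.1, a.2.2.2.1, a.2.2.2.2.1,
    a.2.2.2.2.2.2, ?_⟩
  rw [← mul_assoc, h.sq (h.isPt_left a.1), one_mul]
  exact a.2.2.2.2.2.1

/-- the signs `(0, 1, 0, 0, 1)` -/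
def dd : ZMod 5 → ZMod 2 := fun i => if i = 1 ∨ i = 4 then 1 else 0

omit [Finite G] in
theorem six_calc {a b v c1 c2 c3 : G} (ha : a * a = 1) (hb : b * b = 1) (hv : v * v = 1)
    (h1 : v * a = c1 * a * v) (h2 : v * b = c2 * b * v) (h3 : b * a = c3 * a * b)
    (c1a : c1 * a = a * c1) (c1b : c1 * b = b * c1) (c2a : c2 * a = a * c2) (c2b : c2 * b = b * c2)
    (c3a : c3 * a = a * c3) : a * b * v * (a * b * v) = c1 * c2 * c3 := by
  calc a * b * v * (a * b * v) = a * b * (v * a) * b * v := by group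
    _ = a * (b * c1) * a * v * b * v := by rw [h1]; group
    _ = a * (c1 * b) * a * v * b * v := by rw [c1b]
    _ = (a * c1) * b * a * (v * b) * v := by group
    _ = (c1 * a) * b * a * (c2 * b * v) * v := by rw [← c1a, h2]
    _ = c1 * a * b * (a * c2) * b * (v * v) := by group
    _ = c1 * a * b * (c2 * a) * b := by rw [← c2a, hv, mul_one]
    _ = c1 * a * (b * c2) * a * b := by group
    _ = c1 * (a * c2) * b * a * b := by rw [← c2b]; group
    _ = c1 * c2 * a * (b * a) * b := by rw [← c2a]; group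
    _ = c1 * c2 * (a * c3) * a * (b * b) := by rw [h3]; group
    _ = c1 * c2 * c3 * (a * a) := by rw [← c3a, hb]; group
    _ = c1 * c2 * c3 := by rw [ha, mul_one]

/-- no involution acts with signs of weight 2 -/
theorem no_weight_two (h : FinHyp z p) (F : Frame z p x y) (hg : Trv x y g dd) (hg2 : g * g = 1) : False := by
  have a := F.adj_y 0
  have b := h.third a
  have hx := h.isPt_left a
  set w := y 0 with hw0
  have hwx : w * x = x * w := (h.adj_comm a).symm
  have hxx := h.sq hx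
  have hww := h.sq (h.isPt_right a)
  obtain ⟨e1, ⟨u1, h1, h2, h3⟩, _⟩ := h.exists_refls F a (Or.inl rfl)
  have hsym : ∀ i, (e1 + dd) (-i) = (e1 + dd) i := by
    intro i
    have : ∀ i : ZMod 5, dd (-i) = dd i := by decide
    rw [Pi.add_apply, Pi.add_apply, h3.2.2.1, this]
  have hee : e1 + (e1 + dd) = dd := by
    funext i
    have : ∀ a b : ZMod 2, a + (a + b) = b := by decide
    exact this _ _
  obtain ⟨u2, h4, h5, h6⟩ : ∃ u ∈ U z p (x * w), ¬ InQ z p x u ∧ Refl x y u (e1 + dd) := by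
    rcases h.refl_all F (e := e1 + dd) (by rw [Pi.add_apply, h3.2.1]; rfl) hsym with h4 | h4
    · exfalso
      obtain ⟨u2, h4, h5, h6⟩ := h4
      have h7 := Refl.mul F.toElem h3 h6
      rw [hee] at h7
      have h8 : InQ z p x (u1 * u2) := h.inQ_mul (h.symm a) h1 h4 h2 h5
      by_cases h9 : u1 * u2 ∈ U z p x
      · have h10 : (u1 * u2) * y 1 * (u1 * u2)⁻¹ = y 1 := by
          rw [h.U_comm hx h9 (mem_U_of_adj (F.adj_y 1)), mul_inv_cancel_right]
        have h11 := h7.2 1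
        rw [h10] at h11
        have h12 : tw x 0 * y 1 = tw x (dd 1) * y 1 := by rw [← h11, tw_zero, one_mul]
        exact absurd (F.tw_unique h12).2 (by decide)
      · have h10 := h.trv_F F a (Or.inl rfl) (mul_mem h1 h4) h8 h9
        have h11 := h7.2 2
        rw [h10.2 2] at h11
        exact absurd (F.tw_unique h11).2 (by decide)
    · exact h4
  have hu1 := h.U_sq (h.isPt_right a) h1
  have hu2 := h.U_sq (h.isPt_right b) h4
  have h7 := Refl.mul F.toElem h3 h6
  rw [hee] at h7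
  -- v
  have hv : (u1 * u2)⁻¹ * g ∈ U z p x := by
    have hq : u1 * u2 * x * (u1 * u2)⁻¹ = x := by rw [h7.1, mul_inv_cancel_right]
    apply F.cent
    · have e1 : (u1 * u2) * (((u1 * u2)⁻¹ * g) * x) = (u1 * u2) * (x * ((u1 * u2)⁻¹ * g)) := by
        calc (u1 * u2) * (((u1 * u2)⁻¹ * g) * x) = g * x := by group
          _ = x * g := hg.1
          _ = (u1 * u2 * x * (u1 * u2)⁻¹) * g := by rw [hq]
          _ = _ := by group
      exact mul_left_cancel e1
    · intro i
      have e1 : g * y i * g⁻¹ = (u1 * u2) * y i * (u1 * u2)⁻¹ := by rw [hg.2, h7.2]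
      calc (u1 * u2)⁻¹ * g * y i = (u1 * u2)⁻¹ * (g * y i * g⁻¹) * g := by group
        _ = (u1 * u2)⁻¹ * ((u1 * u2) * y i * (u1 * u2)⁻¹) * g := by rw [e1]
        _ = _ := by group
  obtain ⟨v, hvdef⟩ : ∃ v, v = (u1 * u2)⁻¹ * g := ⟨_, rfl⟩
  rw [← hvdef] at hv
  have hgv : g = u1 * u2 * v := by rw [hvdef]; group
  have hv2 := h.U_sq hx hv
  -- more InQ facts
  have hxw2 : x * w * x = w := by rw [mul_assoc, hwx, ← mul_assoc, hxx, one_mul]
  have q1 : ¬ InQ z p (x * w) u1 := by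
    rw [← hwx, h.inQ_third (h.symm a) h1]; exact h2
  have q2 : ¬ InQ z p w u2 := by
    have := h.inQ_third (h.symm b) h4
    rw [hxw2] at this
    rw [this]; exact h5
  have aw : Adj z p w (x * w) := by
    have := h.third (h.symm a)
    rwa [hwx] at this
  -- c12
  have t12' : TL z p (u2 * u1 * u2⁻¹ * u1⁻¹) w (x * w) := h.comm_TL aw h4 q2 h1 q1
  have t12 : TL z p (u2 * u1 * u2⁻¹ * u1⁻¹) x w := by
    have := h.tl_symm (h.tl_third t12')
    rwa [show w * (x * w) = x by rw [← mul_assoc, hwx, mul_assoc, hww, mul_one]] at this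
  have hu1' : u1⁻¹ = u1 := inv_eq_of_mul_eq_one_left hu1
  have hu2' : u2⁻¹ = u2 := inv_eq_of_mul_eq_one_left hu2
  -- elements of E are central
  have hE : ∀ c, c ∈ U z p x → c ∈ U z p w → (c * u1 = u1 * c ∧ c * u2 = u2 * c) := by
    intro c k1 k2
    refine ⟨h.U_comm (h.isPt_right a) k2 h1, h.U_comm (h.isPt_right b) ?_ h4⟩
    exact (h.mem_U_third a k1).mpr k2
  have hc3 := hE _ t12.2.1 t12.2.2.1
  have key : ∀ c1 c2, c1 ∈ U z p x → c1 ∈ U z p w → c2 ∈ U z p x → c2 ∈ U z p w →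
      v * u1 = c1 * u1 * v → v * u2 = c2 * u2 * v →
      c1 * c2 * (u2 * u1 * u2⁻¹ * u1⁻¹) = 1 := by
    intro c1 c2 k1 k2 k3 k4 k5 k6
    rw [← six_calc hu1 hu2 hv2 k5 k6 (by group) (hE c1 k1 k2).1 (hE c1 k1 k2).2 (hE c2 k3 k4).1
      (hE c2 k3 k4).2 hc3.1, ← hgv, hg2]
  have inV : ∀ t, t ∈ U z p x → t * (u2 * u1 * u2⁻¹ * u1⁻¹) = 1 →
      ¬ (t = 1 ∨ t = x ∨ t = w ∨ t = x * w) := by
    intro t ht ht1 ht2
    have ht3 : u2 * u1 * u2⁻¹ * u1⁻¹ = t := by
      have h8 := h.U_sq hx ht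
      exact mul_left_cancel (ht1.trans h8.symm)
    obtain ⟨_, _, _, n1, n2, n3, n4⟩ := t12
    rw [ht3] at n1 n2 n3 n4
    rcases ht2 with h9 | h9 | h9 | h9
    · exact n1 h9
    · exact n2 h9
    · exact n3 h9
    · exact n4 h9
  by_cases hq : InQ z p w v
  · -- commutators in V
    have hq' : InQ z p (x * w) v := (h.inQ_third a hv).mpr hq
    obtain ⟨c1, k1, k2⟩ : ∃ c1, (c1 = 1 ∨ c1 = w) ∧ v * u1 = c1 * u1 * v := by
      rcases h.inQ_act (h.isPt_right a) hq h1 with h8 | h8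
      · exact ⟨1, Or.inl rfl, by rw [mul_inv_eq_iff_eq_mul] at h8; rw [h8, one_mul]⟩
      · exact ⟨w, Or.inr rfl, by rw [mul_inv_eq_iff_eq_mul] at h8; rw [h8]⟩
    obtain ⟨c2, k3, k4⟩ : ∃ c2, (c2 = 1 ∨ c2 = x * w) ∧ v * u2 = c2 * u2 * v := by
      rcases h.inQ_act (h.isPt_right b) hq' h4 with h8 | h8
      · exact ⟨1, Or.inl rfl, by rw [mul_inv_eq_iff_eq_mul] at h8; rw [h8, one_mul]⟩
      · exact ⟨x * w, Or.inr rfl, by rw [mul_inv_eq_iff_eq_mul] at h8; rw [h8]⟩
    have mw : w ∈ U z p x := mem_U_of_adj a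
    have mx : x ∈ U z p x := self_mem_U
    have mw' : w ∈ U z p w := self_mem_U
    have mx' : x ∈ U z p w := mem_U_of_adj (h.symm a)
    have m1 : c1 ∈ U z p x ∧ c1 ∈ U z p w := by
      rcases k1 with rfl | rfl
      · exact ⟨one_mem _, one_mem _⟩
      · exact ⟨mw, mw'⟩
    have m2 : c2 ∈ U z p x ∧ c2 ∈ U z p w := by
      rcases k3 with rfl | rfl
      · exact ⟨one_mem _, one_mem _⟩
      · exact ⟨mul_mem mx mw, mul_mem mx' mw'⟩
    refine inV _ (mul_mem m1.1 m2.1) (key c1 c2 m1.1 m1.2 m2.1 m2.2 k2 k4) ?_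
    rcases k1 with rfl | rfl <;> rcases k3 with rfl | rfl
    · simp
    · simp only [_root_.one_mul, _root_.mul_eq_left, _root_.mul_eq_right, _root_.or_true]
    · simp
    · right; left
      rw [← mul_assoc, hwx, mul_assoc, hww, mul_one]
  · have hq' : ¬ InQ z p (x * w) v := fun h8 => hq ((h.inQ_third a hv).mp h8)
    have t1 : TL z p (v * u1 * v⁻¹ * u1⁻¹) x w := h.tl_symm (h.comm_TL (h.symm a) hv hq h1 h2)
    have t2' : TL z p (v * u2 * v⁻¹ * u2⁻¹) x (x * w) :=
      h.tl_symm (h.comm_TL (h.symm b) hv hq' h4 h5)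
    have t2 : TL z p (v * u2 * v⁻¹ * u2⁻¹) x w := by
      have := h.tl_third t2'
      rwa [← mul_assoc, hxx, one_mul] at this
    exact inV _ (mul_mem t1.2.1 t2.2.1) (key _ _ t1.2.1 t1.2.2.1 t2.2.1 t2.2.2.1 (by group) (by group))
      (h.TL_mul t1 t2)

omit [Finite G] in
/-- reindexing the frame for an element acting as a transvection -/
theorem trv_twist {k : ZMod 5} {j : ZMod 5} (hg : Trv x y g e) :
    Trv x (fun i => tw x ((0 : ZMod 5 → ZMod 2) i) * y (k * i + j)) g (fun i => e (k * i + j)) := by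
  refine ⟨hg.1, fun i => ?_⟩
  simp only [Pi.zero_apply, tw_zero, one_mul]
  exact hg.2 _

/-- all involutions commuting with a point -/
theorem invol (h : FinHyp z p) (hx : IsPt z x) (hc : u * x = x * u) (hu : u * u = 1) :
    u ∈ U z p x ∨ ∃ w, Adj z p x w ∧ u ∈ U z p w := by
  obtain ⟨y, F⟩ := h.exists_frame hx
  obtain ⟨k, j, e, hk, he, hy⟩ := F.act u hc
  have h4 : ∀ i, tw x (e i + e (k * i + j)) * y (k * (k * i + j) + j) = tw x 0 * y i := by
    intro i
    have h5 : u * (u * y i * u⁻¹) * u⁻¹ = y i := by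
      calc u * (u * y i * u⁻¹) * u⁻¹ = (u * u) * y i * (u * u)⁻¹ := by group
        _ = y i := by rw [hu]; group
    have h6 : u * (tw x (e i) * y (k * i + j)) * u⁻¹ =
        (u * tw x (e i) * u⁻¹) * (u * y (k * i + j) * u⁻¹) := by group
    rw [hy, h6, conj_tw hc, hy, ← mul_assoc, ← tw_add F.xx] at h5
    rw [h5, tw_zero, one_mul]
  have h5 := (F.tw_unique (h4 0)).1
  have h6 := (F.tw_unique (h4 1)).1
  have h7 : (k = 1 ∧ j = 0) ∨ k = -1 := by
    have : ∀ k j : ZMod 5, k * (k * 0 + j) + j = 0 → k * (k * 1 + j) + j = 1 → (k = 1 ∧ j = 0) ∨ k = -1 := by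
      decide
    exact this k j h5 h6
  have hz0 : ∑ i : ZMod 5, (0 : ZMod 5 → ZMod 2) i = 0 := by simp
  rcases h7 with ⟨rfl, rfl⟩ | rfl
  · have ht : Trv x y u e := ⟨hc, fun i => by rw [hy, one_mul, add_zero]⟩
    have h8 : ∀ e : ZMod 5 → ZMod 2, ∑ i, e i = 0 → (∀ i, e i = 0) ∨
        (∃ m, ∀ i, e (1 * i + m) = nn i) ∨ (∃ k' j', k' ≠ 0 ∧ ∀ i, e (k' * i + j') = dd i) := by decide +kernel
    rcases h8 e he with h8 | ⟨m, h8⟩ | ⟨k', j', hk', h8⟩
    · left
      exact Trv.mem F ht h8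
    · right
      have F' := F.twist (k := 1) (by decide) m hz0
      have ht' := trv_twist (k := 1) (j := m) ht
      rw [show (fun i => e (1 * i + m)) = nn from funext h8] at ht'
      generalize (fun i => tw x ((0 : ZMod 5 → ZMod 2) i) * y (1 * i + m)) = y' at F' ht'
      have a := F'.adj_y 0
      obtain ⟨f, hf, hf1, hf2⟩ := h.exists_F a
      have hf' := h.trv_F F' a (Or.inl rfl) hf hf1 hf2
      have hff := h.U_sq (h.isPt_right a) hf
      have hv : u * f ∈ U z p x := by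
        apply Trv.mem (e := nn + nn) F'
        · refine ⟨by rw [mul_assoc, hf'.1, ← mul_assoc, hc, mul_assoc], fun i => ?_⟩
          calc u * f * y' i * (u * f)⁻¹ = u * (f * y' i * f⁻¹) * u⁻¹ := by group
            _ = (u * tw x (nn i) * u⁻¹) * (u * y' i * u⁻¹) := by rw [hf'.2]; group
            _ = _ := by rw [conj_tw hc, ht'.2, ← mul_assoc, ← tw_add F'.xx, Pi.add_apply]
        · decide
      have huv : u = u * f * f := by rw [mul_assoc, hff, mul_one]
      by_cases hq : InQ z p (y' 0) (u * f)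
      · by_cases hm : u * f ∈ U z p (y' 0)
        · refine ⟨_, a, ?_⟩
          rw [huv]
          exact mul_mem hm hf
        · -- u = (u f) f ∈ U_{x w}
          refine ⟨_, h.third a, ?_⟩
          have b := h.third a
          have e1 : (x * y' 0) * x = y' 0 := by
            rw [h.adj_comm a, mul_assoc, F'.xx, mul_one]
          have k1 : InQ z p (x * y' 0) (u * f) := (h.inQ_third a hv).mpr hq
          have k2 : u * f ∉ U z p (x * y' 0) := fun k => hm ((h.mem_U_third a hv).mp k)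
          have k3 : InQ z p (x * y' 0) f := by
            have := h.inQ_third (h.symm a) hf
            rw [← h.adj_comm a] at this
            exact this.mpr hf1
          have k4 : f ∉ U z p (x * y' 0) := by
            have := h.mem_U_third (h.symm a) hf
            rw [← h.adj_comm a] at this
            exact fun k => hf2 (this.mp k)
          have k5 := h.F_mul (h.symm b) hv k1 k2 (g := f) (by rw [e1]; exact hf) k3 k4
          rw [huv]
          exact k5.1
      · exfalso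
        have k1 := h.F_act a hf hf1 hf2 hv hq
        have k2 : u * f * x * (u * f) = 1 := by
          calc u * f * x * (u * f) = u * f * (x * (u * f)) := by group
            _ = u * f * (f * (u * f) * f⁻¹) := by rw [k1]
            _ = u * (f * f) * u * (f * f⁻¹) := by group
            _ = 1 := by rw [hff]; simp [hu]
        have k3 : u * f * x * (u * f) = x := by
          rw [h.U_comm hx hv self_mem_U, mul_assoc, h.U_sq hx hv, mul_one]
        exact h.ne_one hx (k3.symm.trans k2)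
    · exfalso
      have F' := F.twist hk' j' hz0
      have ht' := trv_twist (k := k') (j := j') ht
      rw [show (fun i => e (k' * i + j')) = dd from funext h8] at ht'
      exact h.no_weight_two F' ht' hu
  · right
    have F' := F.twist (k := 1) (by decide) (3 * j) hz0
    have hr : Refl x (fun i => tw x ((0 : ZMod 5 → ZMod 2) i) * y (1 * i + 3 * j)) u
        (fun i => e (1 * i + 3 * j)) := by
      have hs : ∀ i, e (-i + 3 * j) = e (i + 3 * j) := by
        intro i
        have h8 := (F.tw_unique (h4 (i + 3 * j))).2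
        have h9 : ∀ i j : ZMod 5, -1 * (i + 3 * j) + j = -i + 3 * j := by decide
        rw [h9] at h8
        have e1 : ∀ a b : ZMod 2, a + b = 0 → b = a := by decide
        exact e1 _ _ h8
      refine ⟨hc, ?_, fun i => ?_, fun i => ?_⟩
      · have h8 : ∀ e : ZMod 5 → ZMod 2, (∀ i, e (-i) = e i) → ∑ i, e i = 0 → e 0 = 0 := by decide +kernel
        refine h8 (fun i => e (1 * i + 3 * j)) (fun i => ?_) ?_
        · show e (1 * (-i) + 3 * j) = e (1 * i + 3 * j)
          rw [one_mul, one_mul]; exact hs i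
        · rw [← he]
          exact Fintype.sum_equiv (Equiv.addRight (3 * j)) _ _ (fun i => by simp)
      · show e (1 * (-i) + 3 * j) = e (1 * i + 3 * j)
        rw [one_mul, one_mul]; exact hs i
      · simp only [Pi.zero_apply, tw_zero, one_mul]
        rw [hy]
        congr 2
        have h9 : ∀ i j : ZMod 5, -1 * (i + 3 * j) + j = -i + 3 * j := by decide
        exact h9 i j
    rcases h.refl_all F' (e := fun i => e (1 * i + 3 * j)) hr.2.1 hr.2.2.1 with ⟨u', k1, k2, k3⟩ | ⟨u', k1, k2, k3⟩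
    · exact ⟨_, F'.adj_y 0, h.mem_of_same F' (F'.adj_y 0) k1 k2 k3 hr hu⟩
    · exact ⟨_, h.third (F'.adj_y 0), h.mem_of_same F' (h.third (F'.adj_y 0)) k1 k2 k3 hr hu⟩

theorem U_cases (h : FinHyp z p) (hx : IsPt z x) (hu : u ∈ U z p x) :
    u = 1 ∨ u = x ∨ Adj z p x u ∨ ∃ w, TL z p u x w := by
  obtain ⟨y, F⟩ := h.exists_frame hx
  obtain ⟨a, s, rfl⟩ := (F.mem u).mp hu
  have h1 : ∀ s : ZMod 5 → ZMod 2, (s = 0 ∨ s = 0 + 1) ∨ (∃ m, s = Pi.single m 1 ∨ s = Pi.single m 1 + 1) ∨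
      ∃ m, Sy 0 (fun i => s (i + m)) ∧ (fun i => s (i + m)) ≠ 0 ∧ (fun i => s (i + m)) ≠ 1 ∧
        (fun i => s (i + m)) ≠ Pi.single 0 1 ∧ (fun i => s (i + m)) ≠ Pi.single 0 1 + 1 := by decide +kernel
  rcases h1 s with h2 | ⟨m, h2⟩ | ⟨m, h2⟩
  · have h3 : el x y a s = tw x a := by
      rcases h2 with rfl | rfl
      · rw [el_tw]
      · rw [F.el_add_one, el_tw]
    rw [h3]
    rcases zmod2 a with rfl | rfl <;> simp
  · right; right; left
    have h3 : el x y a s = tw x a * y m := by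
      rw [F.tw_y]
      rcases h2 with rfl | rfl
      · rfl
      · rw [F.el_add_one]
    rw [h3]
    exact F.adj_tw a m
  · right; right; right
    obtain ⟨y', F', h0, h3⟩ := shift_frame F m 0
    obtain ⟨a', h4⟩ := h3 a s
    refine ⟨y' 0, ?_⟩
    rw [h4, h.tl_iff F' rfl]
    exact h2

end FinHyp

end Cfsg.Agent.Classification.TitsFin
end

-- part: Classification/TitsFin/LocalFour
section
/-!
# Local structure: the second class of involutions
-/

set_option autoImplicit false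

namespace Cfsg.Agent.Classification.TitsFin

open Subgroup

variable {G : Type*} [Group G]

namespace FinHyp

variable [Finite G] {z p x w f g u v : G} {y : ZMod 5 → G} {e e' : ZMod 5 → ZMod 2}

/-- coordinates of the elements of `E - V` -/
def Cd (s : ZMod 5 → ZMod 2) : Prop :=
  Sy 0 s ∧ s ≠ 0 ∧ s ≠ 1 ∧ s ≠ Pi.single 0 1 ∧ s ≠ Pi.single 0 1 + 1

instance (s : ZMod 5 → ZMod 2) : Decidable (Cd s) := by unfold Cd; infer_instance

theorem cd_cases : ∀ s, Cd s → (s = Pi.single 1 1 + Pi.single 4 1 ∨ s = Pi.single 1 1 + Pi.single 4 1 + 1) ∨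
    (s = Pi.single 2 1 + Pi.single 3 1 ∨ s = Pi.single 2 1 + Pi.single 3 1 + 1) := by decide +kernel

/-- `C(x)` is transitive on `E - V` -/
theorem TL_conj (h : FinHyp z p) (hu : TL z p u x w) (hv : TL z p v x w) :
    ∃ g, g * x = x * g ∧ g * u * g⁻¹ = v := by
  obtain ⟨y, F, h0⟩ := h.exists_frame_adj hu.1
  obtain ⟨a, s, rfl⟩ := (F.mem u).mp hu.2.1
  obtain ⟨b, t, rfl⟩ := (F.mem v).mp hv.2.1
  rw [h.tl_iff F h0] at hu hv
  have e1 : ∀ s t, Cd s → Cd t → ∃ k k' : ZMod 5, k * k' = 1 ∧ k ≠ 0 ∧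
      (t = (fun m => s (k' * (m - 0))) ∨ t = (fun m => s (k' * (m - 0))) + 1) := by decide +kernel
  have e2 : ∀ s, Cd s → ∀ c : ZMod 2, ∃ e : ZMod 5 → ZMod 2, ∑ i, e i = 0 ∧ ∑ i, e i * s i = c := by decide +kernel
  obtain ⟨k, k', hk, hk0, ht⟩ := e1 s t hu hv
  obtain ⟨e, he, hes⟩ := e2 s hu (a + b)
  obtain ⟨g, hg, hgy⟩ := F.real k 0 e hk0 he
  refine ⟨g, hg, ?_⟩
  have hgx : g * x * g⁻¹ = x := by rw [hg, mul_inv_cancel_right]
  rw [el_conj, hgx, show (fun i => g * y i * g⁻¹) = fun i => tw x (e i) * y (k * i + 0) from funext hgy,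
    el_aff F.toElem hk, hes]
  have e3 : ∀ a b : ZMod 2, a + (a + b) = b := by decide
  rw [e3]
  rcases ht with ht | ht
  · rw [ht]
  · rw [ht, F.el_add_one]

omit [Finite G] in
/-- flags are conjugate -/
theorem adj_conj (a : Adj z p x w) {x' w' : G} (b : Adj z p x' w') :
    ∃ g, g * x * g⁻¹ = x' ∧ g * w * g⁻¹ = w' := by
  obtain ⟨g, h1, h2⟩ := a
  obtain ⟨k, h3, h4⟩ := b
  refine ⟨k * g⁻¹, ?_, ?_⟩
  · rw [← h1, ← h3]; group
  · rw [← h2, ← h4]; group

/-- an element `c` permuting the three points of a line cyclically -/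
theorem exists_three (h : FinHyp z p) (hv : TL z p v x w) : ∃ c v', TL z p v' x w ∧ c * v' = v' * c ∧
    c * x * c⁻¹ = x * w ∧ c * w * c⁻¹ = x := by
  have a := hv.1
  have hwx : w * x = x * w := (h.adj_comm a).symm
  have hxx := h.sq (h.isPt_left a)
  have hww := h.sq (h.isPt_right a)
  obtain ⟨c, h1, h2⟩ := adj_conj a (h.symm (h.third a))
  have h3 : c * (x * w) * c⁻¹ = w := by
    calc c * (x * w) * c⁻¹ = (c * x * c⁻¹) * (c * w * c⁻¹) := by group
      _ = w := by rw [h1, h2, mul_assoc, hwx, ← mul_assoc, hxx, one_mul]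
  have hcv : TL z p (c * v * c⁻¹) x w := by
    have k1 : TL z p (c * v * c⁻¹) (x * w) x := by
      obtain ⟨b1, b2, b3, b4, b5, b6, b7⟩ := hv
      refine ⟨h.symm (h.third a), ?_, ?_, ?_, ?_, ?_, ?_⟩
      · rw [← h1, conj_mem_U]; exact b2
      · have := (conj_mem_U (g := c) (u := v) (x := w) (z := z) (p := p)).mpr b3
        rwa [h2] at this
      · intro k
        apply b4
        have := congrArg (fun t => c⁻¹ * t * c) k
        simpa [mul_assoc] using this
      · intro k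
        rw [← h1] at k
        exact b5 (mul_left_cancel (mul_right_cancel k))
      · intro k
        rw [← h2] at k
        exact b6 (mul_left_cancel (mul_right_cancel k))
      · intro k
        have e : x * w * x = w := by rw [mul_assoc, hwx, ← mul_assoc, hxx, one_mul]
        rw [e, ← h3] at k
        exact b7 (mul_left_cancel (mul_right_cancel k))
    have := h.tl_third (h.tl_symm k1)
    rwa [← mul_assoc, hxx, one_mul] at this
  have hvv := h.U_sq (h.isPt_left a) hv.2.1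
  have hvx : v * x = x * v := h.U_comm (h.isPt_left a) hv.2.1 self_mem_U
  have hvw : v * w = w * v := h.U_comm (h.isPt_left a) hv.2.1 (mem_U_of_adj a)
  -- multiply by an element of V
  have key : ∀ s, (s = 1 ∨ s = x ∨ s = w ∨ s = x * w) → TL z p (v * s) x w := by
    intro s hs
    have ms : s ∈ U z p x ∧ s ∈ U z p w := by
      rcases hs with rfl | rfl | rfl | rfl
      · exact ⟨one_mem _, one_mem _⟩
      · exact ⟨self_mem_U, mem_U_of_adj (h.symm a)⟩
      · exact ⟨mem_U_of_adj a, self_mem_U⟩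
      · exact ⟨mul_mem self_mem_U (mem_U_of_adj a), mul_mem (mem_U_of_adj (h.symm a)) self_mem_U⟩
    have hss := h.U_sq (h.isPt_left a) ms.1
    have inV : ∀ t, (t = 1 ∨ t = x ∨ t = w ∨ t = x * w) → (t * s = 1 ∨ t * s = x ∨ t * s = w ∨ t * s = x * w) := by
      intro t ht
      rcases ht with rfl | rfl | rfl | rfl <;> rcases hs with rfl | rfl | rfl | rfl
      · simp
      · simp
      · simp
      · simp only [_root_.one_mul, _root_.mul_eq_left, _root_.mul_eq_right, _root_.or_true]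
      · simp
      · simp [hxx]
      · simp
      · right; right; left; rw [← mul_assoc, hxx, one_mul]
      · simp
      · simp only [hwx, _root_.mul_eq_left, _root_.mul_eq_right, _root_.or_true]
      · simp [hww]
      · right; left; rw [← mul_assoc, hwx, mul_assoc, hww, mul_one]
      · simp only [_root_.mul_one, _root_.mul_eq_left, _root_.mul_eq_right, _root_.or_true]
      · right; right; left; rw [mul_assoc, hwx, ← mul_assoc, hxx, one_mul]
      · right; left; rw [mul_assoc, hww, mul_one]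
      · left; rw [mul_assoc, ← mul_assoc w, hwx, mul_assoc x w w, hww, mul_one, hxx]
    have nn : ∀ t, (t = 1 ∨ t = x ∨ t = w ∨ t = x * w) → v * s ≠ t := by
      intro t ht k
      have k2 : v = t * s := by rw [← k, mul_assoc, hss, mul_one]
      obtain ⟨_, _, _, b4, b5, b6, b7⟩ := hv
      rcases inV t ht with k3 | k3 | k3 | k3 <;> rw [k3] at k2
      · exact b4 k2
      · exact b5 k2
      · exact b6 k2
      · exact b7 k2
    exact ⟨a, mul_mem hv.2.1 ms.1, mul_mem hv.2.2.1 ms.2, nn 1 (by simp), nn x (by simp), nn w (by simp),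
      nn (x * w) (by simp)⟩
  have hcv' : ∀ t, v * (c * v * c⁻¹) = t → c * v * c⁻¹ = v * t := by
    intro t ht
    rw [← ht, ← mul_assoc, hvv, one_mul]
  rcases h.TL_mul hv hcv with k | k | k | k
  · refine ⟨c, v, hv, ?_, h1, h2⟩
    have := hcv' _ k
    rw [mul_one, mul_inv_eq_iff_eq_mul] at this
    exact this
  · refine ⟨c, v * (x * w), key _ (by simp), ?_, h1, h2⟩
    have k2 := hcv' _ k
    have k3 : c * (v * (x * w)) * c⁻¹ = v * (x * w) := by
      calc c * (v * (x * w)) * c⁻¹ = (c * v * c⁻¹) * (c * (x * w) * c⁻¹) := by group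
        _ = _ := by rw [k2, h3, mul_assoc]
    rw [mul_inv_eq_iff_eq_mul] at k3
    exact k3
  · refine ⟨c, v * x, key _ (by simp), ?_, h1, h2⟩
    have k2 := hcv' _ k
    have k3 : c * (v * x) * c⁻¹ = v * x := by
      calc c * (v * x) * c⁻¹ = (c * v * c⁻¹) * (c * x * c⁻¹) := by group
        _ = v * (w * x * w) := by rw [k2, h1]; group
        _ = _ := by rw [hwx, mul_assoc x, hww, mul_one]
    rw [mul_inv_eq_iff_eq_mul] at k3
    exact k3
  · refine ⟨c, v * w, key _ (by simp), ?_, h1, h2⟩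
    have k2 := hcv' _ k
    have k3 : c * (v * w) * c⁻¹ = v * w := by
      calc c * (v * w) * c⁻¹ = (c * v * c⁻¹) * (c * w * c⁻¹) := by group
        _ = v * (x * w * x) := by rw [k2, h2]; group
        _ = _ := by rw [mul_assoc x, hwx, ← mul_assoc x, hxx, one_mul]
    rw [mul_inv_eq_iff_eq_mul] at k3
    exact k3

theorem TL_not_isPt (h : FinHyp z p) (a : TL z p v x w) : ¬ IsPt z v := by
  intro hv
  obtain ⟨c, v', h1, h2, h3, h4⟩ := h.exists_three a
  obtain ⟨g, _, h5⟩ := h.TL_conj a h1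
  have hv' : IsPt z v' := h5 ▸ hv.conj g
  have h6 := h.card_cent hv'
  have hc : c ∈ centralizer ({v'} : Set G) := mem_centralizer_singleton_iff.mpr h2
  have h7 : orderOf c ∣ 10240 := by
    rw [← h6]
    have := _root_.orderOf_dvd_natCard (⟨c, hc⟩ : centralizer ({v'} : Set G))
    rwa [Subgroup.orderOf_mk] at this
  have h8 : Nat.Coprime 3 (orderOf c) := Nat.Coprime.coprime_dvd_right h7 (by norm_num)
  obtain ⟨m, hm⟩ := exists_pow_eq_self_of_coprime h8
  have hwx : w * x = x * w := (h.adj_comm a.1).symm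
  have hxx := h.sq (h.isPt_left a.1)
  have h9 : Commute (c ^ 3) x := by
    have e0 : c * (x * w) * c⁻¹ = w := by
      calc c * (x * w) * c⁻¹ = (c * x * c⁻¹) * (c * w * c⁻¹) := by group
        _ = w := by rw [h3, h4, mul_assoc, hwx, ← mul_assoc, hxx, one_mul]
    have e1 : c ^ 3 * x * (c ^ 3)⁻¹ = x := by
      rw [pow_succ, pow_two]
      calc c * c * c * x * (c * c * c)⁻¹ = c * (c * (c * x * c⁻¹) * c⁻¹) * c⁻¹ := by group
        _ = x := by rw [h3, e0, h4]
    exact mul_inv_eq_iff_eq_mul.mp e1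
  have h10 : Commute c x := by
    have := h9.pow_left m
    rwa [hm] at this
  have h11 : c * x * c⁻¹ = x := by rw [h10.eq, mul_inv_cancel_right]
  rw [h3] at h11
  exact h.ne_one (h.isPt_right a.1) (mul_eq_left.mp h11)

theorem isPt_inQ (h : FinHyp z p) (hx : IsPt z x) (hv : IsPt z v) (hQ : InQ z p x v) : v ∈ U z p x := by
  rcases h.invol hx hQ.1 (h.sq hv) with h1 | ⟨w, a, h1⟩
  · exact h1
  · rcases h.U_cases (h.isPt_right a) h1 with h2 | h2 | h2 | ⟨w', h2⟩
    · rw [h2]; exact one_mem _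
    · rw [h2]; exact mem_U_of_adj a
    · by_cases h3 : v = x
      · rw [h3]; exact self_mem_U
      · by_cases h4 : v = w * x
        · rw [h4]; exact mul_mem (mem_U_of_adj a) self_mem_U
        · exact absurd hQ (h.not_inQ (h.symm a) h2 h3 h4)
    · exact absurd hv (h.TL_not_isPt h2)

/-- action of an involution of `C(x)` not in `Q_x` on the five lines -/
theorem act_invol (h : FinHyp z p) (F : Frame z p x y) (hu : u * x = x * u) (hu2 : u * u = 1)
    (h1 : ¬ InQ z p x u) :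
    ∃ (j : ZMod 5) (e : ZMod 5 → ZMod 2), ∀ i, u * y i * u⁻¹ = tw x (e i) * y (-i + j) := by
  obtain ⟨k, j, e, hk, he, hy⟩ := F.act u hu
  have h4 : ∀ i, tw x (e i + e (k * i + j)) * y (k * (k * i + j) + j) = tw x 0 * y i := by
    intro i
    have h5 : u * (u * y i * u⁻¹) * u⁻¹ = y i := by
      calc u * (u * y i * u⁻¹) * u⁻¹ = (u * u) * y i * (u * u)⁻¹ := by group
        _ = y i := by rw [hu2]; group
    have h6 : u * (tw x (e i) * y (k * i + j)) * u⁻¹ =
        (u * tw x (e i) * u⁻¹) * (u * y (k * i + j) * u⁻¹) := by group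
    rw [hy, h6, conj_tw hu, hy, ← mul_assoc, ← tw_add F.xx] at h5
    rw [h5, tw_zero, one_mul]
  have h5 := (F.tw_unique (h4 0)).1
  have h6 := (F.tw_unique (h4 1)).1
  have h7 : (k = 1 ∧ j = 0) ∨ k = -1 := by
    have : ∀ k j : ZMod 5, k * (k * 0 + j) + j = 0 → k * (k * 1 + j) + j = 1 → (k = 1 ∧ j = 0) ∨ k = -1 := by
      decide
    exact this k j h5 h6
  rcases h7 with ⟨rfl, rfl⟩ | rfl
  · exfalso
    exact h1 (F.inQ_iff.mpr ⟨hu, e, he, fun i => by rw [hy, one_mul, add_zero]⟩)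
  · exact ⟨j, e, fun i => by rw [hy, neg_one_mul]⟩

omit [Finite G] in
theorem conj_two (F : Frame z p x y) (hu : u * x = x * u) {σ τ : ZMod 5 → ZMod 5}
    {e e' : ZMod 5 → ZMod 2} (h1 : ∀ i, u * y i * u⁻¹ = tw x (e i) * y (σ i))
    (h2 : ∀ i, v * y i * v⁻¹ = tw x (e' i) * y (τ i)) (i : ZMod 5) :
    (u * v) * y i * (u * v)⁻¹ = tw x (e' i + e (τ i)) * y (σ (τ i)) := by
  calc (u * v) * y i * (u * v)⁻¹ = u * (v * y i * v⁻¹) * u⁻¹ := by group
    _ = (u * tw x (e' i) * u⁻¹) * (u * y (τ i) * u⁻¹) := by rw [h2]; group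
    _ = _ := by rw [conj_tw hu, h1, ← mul_assoc, ← tw_add F.xx]

theorem inQ_mul_of_comm (h : FinHyp z p) (hx : IsPt z x) (hu : u * x = x * u) (hv : v * x = x * v)
    (hu2 : u * u = 1) (hv2 : v * v = 1) (huv : u * v = v * u) (h1 : ¬ InQ z p x u)
    (h2 : ¬ InQ z p x v) : InQ z p x (u * v) := by
  obtain ⟨y, F⟩ := h.exists_frame hx
  obtain ⟨j, e, hy⟩ := h.act_invol F hu hu2 h1
  obtain ⟨j', e', hy'⟩ := h.act_invol F hv hv2 h2
  have h3 := conj_two F hu hy hy'
  have h4 := conj_two F hv hy' hy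
  have h5 := h3 0
  rw [huv, h4 0] at h5
  have h6 := (F.tw_unique h5).1
  have h7 : ∀ j j' : ZMod 5, -(-0 + j) + j' = -(-0 + j') + j → j = j' := by decide
  have h8 := h7 j j' h6
  subst h8
  have hc : u * v * x = x * (u * v) := by rw [mul_assoc, hv, ← mul_assoc, hu, mul_assoc]
  refine ⟨hc, fun w hw => ?_⟩
  obtain ⟨a, i, rfl⟩ := F.adj_iff.mp hw
  have h9 : (u * v) * (tw x a * y i) * (u * v)⁻¹ = tw x (e' i + e (-i + j)) * (tw x a * y i) := by
    calc (u * v) * (tw x a * y i) * (u * v)⁻¹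
        = ((u * v) * tw x a * (u * v)⁻¹) * ((u * v) * y i * (u * v)⁻¹) := by group
      _ = tw x a * (tw x (e' i + e (-i + j)) * y i) := by
          rw [conj_tw hc, h3]
          congr 3
          ring
      _ = _ := by rw [← mul_assoc, ← mul_assoc, ← tw_add F.xx, ← tw_add F.xx, add_comm]
  rw [h9]
  rcases zmod2 (e' i + e (-i + j)) with h10 | h10
  · left; rw [h10, tw_zero, one_mul]
  · right; rw [h10, tw_one]

theorem no_pow_four (h : FinHyp z p) {y : G} (a : Adj z p x w) (b : Adj z p x y) (h1 : y ≠ w)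
    (h2 : y ≠ x * w) (hu : u ∈ U z p w) (hu1 : ¬ InQ z p x u) (hv : v ∈ U z p y)
    (hv1 : ¬ InQ z p x v) : (u * v) ^ 4 ≠ 1 := by
  obtain ⟨y', F, h0, h3⟩ := h.exists_frame_two a b h1 h2
  subst h0 h3
  have hux : u * x = x * u := h.U_comm (h.isPt_right a) hu (mem_U_of_adj (h.symm a))
  have hvx : v * x = x * v := h.U_comm (h.isPt_right b) hv (mem_U_of_adj (h.symm b))
  obtain ⟨j, e, hy⟩ := h.act_invol F hux (h.U_sq (h.isPt_right a) hu) hu1
  obtain ⟨j', e', hy'⟩ := h.act_invol F hvx (h.U_sq (h.isPt_right b) hv) hv1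
  have k1 : -0 + j = 0 := by
    have k2 : tw x (e 0) * y' (-0 + j) = tw x 0 * y' 0 := by
      rw [← hy, h.U_comm (h.isPt_right a) hu self_mem_U, mul_inv_cancel_right, tw_zero, one_mul]
    exact (F.tw_unique k2).1
  have k1' : -1 + j' = 1 := by
    have k2 : tw x (e' 1) * y' (-1 + j') = tw x 0 * y' 1 := by
      rw [← hy', h.U_comm (h.isPt_right b) hv self_mem_U, mul_inv_cancel_right, tw_zero, one_mul]
    exact (F.tw_unique k2).1
  have h5 := conj_two F hux hy hy'
  have hc : u * v * x = x * (u * v) := by rw [mul_assoc, hvx, ← mul_assoc, hux, mul_assoc]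
  have h6 := conj_two F hc h5 h5
  have hc2 : u * v * (u * v) * x = x * (u * v * (u * v)) := by
    rw [mul_assoc, hc, ← mul_assoc, hc, mul_assoc]
  have h7 := conj_two F hc2 h6 h6
  intro h8
  have h9 : u * v * (u * v) * (u * v * (u * v)) = 1 := by
    rw [← h8]
    simp only [pow_succ, pow_zero, one_mul, mul_assoc]
  have h10 := h7 0
  rw [h9] at h10
  have h11 : tw x 0 * y' 0 = 1 * y' 0 * 1⁻¹ := by simp
  have h12 := (F.tw_unique (h11.trans h10)).1
  revert h12
  have h14 : j = 0 := by simpa using k1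
  have h15 : j' = 2 := by
    have : ∀ j' : ZMod 5, -1 + j' = 1 → j' = 2 := by decide
    exact this j' k1'
  subst h14 h15
  decide

theorem center_TL (h : FinHyp z p) (a : TL z p v x w) (hu : u ∈ U z p x)
    (hc : ∀ g, g * x = x * g → g * v = v * g → g * u = u * g) :
    u = 1 ∨ u = x ∨ u = v ∨ u = x * v := by
  obtain ⟨y, F, h0⟩ := h.exists_frame_adj a.1
  obtain ⟨c, s, rfl⟩ := (F.mem v).mp a.2.1
  obtain ⟨b, t, rfl⟩ := (F.mem u).mp hu
  rw [h.tl_iff F h0] at a
  have key : ∀ P : ZMod 5 → ZMod 2, (s = P ∨ s = P + 1) →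
      (∀ t : ZMod 5 → ZMod 2, (∀ e : ZMod 5 → ZMod 2, ∑ i, e i = 0 → ∑ i, e i * P i = 0 → ∑ i, e i * t i = 0) →
        (t = 0 ∨ t = 0 + 1) ∨ (t = P ∨ t = P + 1)) →
      el x y b t = 1 ∨ el x y b t = x ∨ el x y b t = el x y c s ∨ el x y b t = x * el x y c s := by
    intro P hP hdec
    have hsP : el x y c s = el x y c P := by
      rcases hP with rfl | rfl
      · rfl
      · exact F.el_add_one _ _
    have h1 : ∀ e : ZMod 5 → ZMod 2, ∑ i, e i = 0 → ∑ i, e i * P i = 0 → ∑ i, e i * t i = 0 := by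
      intro e he heP
      obtain ⟨g, hg, hgy⟩ := F.real 1 0 e (by decide) he
      have hgy' : ∀ i, g * y i * g⁻¹ = tw x (e i) * y i := fun i => by rw [hgy, one_mul, add_zero]
      have h2 := conj_trans F hg hgy' c P
      rw [heP, add_zero, mul_inv_eq_iff_eq_mul] at h2
      have h3 := hc g hg (by rw [hsP]; exact h2)
      have h4 := conj_trans F hg hgy' b t
      rw [h3, mul_inv_cancel_right] at h4
      have h5 := (F.el_inj h4).1
      have e1 : ∀ a b : ZMod 2, a = a + b → b = 0 := by decide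
      exact e1 _ _ h5
    rw [hsP]
    rcases hdec t h1 with h2 | h2
    · have h3 : el x y b t = tw x b := by
        rcases h2 with rfl | rfl
        · rw [el_tw]
        · rw [F.el_add_one, el_tw]
      rw [h3]
      rcases zmod2 b with rfl | rfl <;> simp
    · have h3 : el x y b t = el x y b P := by
        rcases h2 with rfl | rfl
        · rfl
        · rw [F.el_add_one]
      rw [h3, x_mul_el F.toElem]
      rcases zmod2 b with rfl | rfl <;> rcases zmod2 c with rfl | rfl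
      · simp
      · right; right; right; rfl
      · right; right; right; rw [zero_add]
      · simp
  rcases cd_cases s a with hs | hs
  · exact key _ hs (by decide +kernel)
  · exact key _ hs (by decide +kernel)

theorem card_cent_TL (h : FinHyp z p) (a : TL z p v x w) :
    Nat.card ↥(centralizer ({x} : Set G) ⊓ centralizer ({v} : Set G) : Subgroup G) = 512 := by
  classical
  obtain ⟨y, F, h0⟩ := h.exists_frame_adj a.1
  let H := centralizer ({x} : Set G)
  letI : MulAction H G := MulAction.compHom G ((MulAut.conj : G →* MulAut G).comp H.subtype)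
  have hsm : ∀ (k : H) (t : G), k • t = (k : G) * t * (k : G)⁻¹ := fun k t => rfl
  have h1 := (MulAction.stabilizer H v).card_mul_index
  rw [MulAction.index_stabilizer, h.card_cent (h.isPt_left a.1)] at h1
  have h2 : Nat.card (MulAction.stabilizer H v) =
      Nat.card ↥(centralizer ({x} : Set G) ⊓ centralizer ({v} : Set G) : Subgroup G) := by
    refine Nat.card_congr
      { toFun := fun k => ⟨k.1.1, k.1.2, ?_⟩
        invFun := fun g => ⟨⟨g.1, g.2.1⟩, ?_⟩
        left_inv := fun k => rfl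
        right_inv := fun g => rfl }
    · have := k.2
      rw [MulAction.mem_stabilizer_iff, hsm, mul_inv_eq_iff_eq_mul] at this
      exact mem_centralizer_singleton_iff.mpr this
    · rw [MulAction.mem_stabilizer_iff, hsm, mul_inv_eq_iff_eq_mul]
      exact mem_centralizer_singleton_iff.mp g.2.2
  -- the orbit has 20 elements
  let S : Finset (ZMod 5 → ZMod 2) := Finset.univ.filter (fun s => (Finset.univ.filter (fun i => s i ≠ 0)).card = 2)
  let O : Finset G := (Finset.univ ×ˢ S).image (fun q : ZMod 2 × (ZMod 5 → ZMod 2) => el x y q.1 q.2)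
  have hO : O.card = 20 := by
    rw [Finset.card_image_of_injOn]
    · have : S.card = 10 := by decide +kernel
      rw [Finset.card_product, this]
      decide
    · rintro ⟨b, s⟩ hs ⟨c, t⟩ ht hst
      have hs' : s ∈ S := (Finset.mem_product.mp hs).2
      have ht' : t ∈ S := (Finset.mem_product.mp ht).2
      obtain ⟨k1, k2⟩ := F.el_inj hst
      have k3 : ∀ s t : ZMod 5 → ZMod 2, (Finset.univ.filter (fun i => s i ≠ 0)).card = 2 →
          (Finset.univ.filter (fun i => t i ≠ 0)).card = 2 → (s = t ∨ s = t + 1) → s = t := by decide +kernel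
      have k4 := k3 s t (Finset.mem_filter.mp hs').2 (Finset.mem_filter.mp ht').2 k2
      rw [Prod.mk.injEq]
      exact ⟨k1, k4⟩
  obtain ⟨c, s0, hv⟩ := (F.mem v).mp a.2.1
  subst hv
  rw [h.tl_iff F h0] at a
  obtain ⟨s, hs, hs0⟩ : ∃ s : ZMod 5 → ZMod 2, (s = Pi.single 1 1 + Pi.single 4 1 ∨
      s = Pi.single 2 1 + Pi.single 3 1) ∧ el x y c s0 = el x y c s := by
    rcases cd_cases s0 a with (hs | hs) | (hs | hs)
    · exact ⟨_, Or.inl rfl, by rw [hs]⟩
    · exact ⟨_, Or.inl rfl, by rw [hs, F.el_add_one]⟩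
    · exact ⟨_, Or.inr rfl, by rw [hs]⟩
    · exact ⟨_, Or.inr rfl, by rw [hs, F.el_add_one]⟩
  rw [hs0] at h1 h2 ⊢
  have horb : MulAction.orbit H (el x y c s) = (O : Set G) := by
    ext t
    rw [MulAction.mem_orbit_iff, Finset.mem_coe, Finset.mem_image]
    constructor
    · rintro ⟨k, rfl⟩
      have hk : (k : G) * x = x * k := mem_centralizer_singleton_iff.mp k.2
      obtain ⟨k1, j, e, hk1, he, hy⟩ := F.act k hk
      have hkx : (k : G) * x * (k : G)⁻¹ = x := by rw [hk, mul_inv_cancel_right]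
      have h3 : ∀ k : ZMod 5, k ≠ 0 → ∃ k', k * k' = 1 := by decide
      obtain ⟨k', hk'⟩ := h3 k1 hk1
      refine ⟨(c + ∑ i, e i * s i, fun m => s (k' * (m - j))), ?_, ?_⟩
      · rw [Finset.mem_product]
        refine ⟨Finset.mem_univ _, Finset.mem_filter.mpr ⟨Finset.mem_univ _, ?_⟩⟩
        have e1 : ∀ k' j : ZMod 5, k' ≠ 0 → ∀ s : ZMod 5 → ZMod 2, (s = Pi.single 1 1 + Pi.single 4 1 ∨
            s = Pi.single 2 1 + Pi.single 3 1) →
            (Finset.univ.filter (fun m => s (k' * (m - j)) ≠ 0)).card = 2 := by decide +kernel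
        refine e1 k' j ?_ s hs
        rintro rfl
        rw [mul_zero] at hk'
        exact absurd hk' (by decide)
      · show el x y (c + ∑ i, e i * s i) (fun m => s (k' * (m - j))) = k • el x y c s
        rw [hsm, el_conj, hkx, show (fun i => (k : G) * y i * (k : G)⁻¹) =
          fun i => tw x (e i) * y (k1 * i + j) from funext hy, el_aff F.toElem hk']
    · rintro ⟨⟨b, t⟩, ht, rfl⟩
      have ht' : t ∈ S := (Finset.mem_product.mp ht).2
      have e1 : ∀ s t : ZMod 5 → ZMod 2, (s = Pi.single 1 1 + Pi.single 4 1 ∨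
            s = Pi.single 2 1 + Pi.single 3 1) →
          (Finset.univ.filter (fun i => t i ≠ 0)).card = 2 →
          ∃ k k' j : ZMod 5, k * k' = 1 ∧ k ≠ 0 ∧ t = fun m => s (k' * (m - j)) := by decide +kernel
      have e2 : ∀ s : ZMod 5 → ZMod 2, (s = Pi.single 1 1 + Pi.single 4 1 ∨
            s = Pi.single 2 1 + Pi.single 3 1) → ∀ c : ZMod 2,
            ∃ e : ZMod 5 → ZMod 2, ∑ i, e i = 0 ∧ ∑ i, e i * s i = c := by decide +kernel
      obtain ⟨k, k', j, hk, hk0, hts⟩ := e1 s t hs (Finset.mem_filter.mp ht').2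
      obtain ⟨e, he, hes⟩ := e2 s hs (c + b)
      obtain ⟨g, hg, hgy⟩ := F.real k j e hk0 he
      refine ⟨⟨g, mem_centralizer_singleton_iff.mpr hg⟩, ?_⟩
      have hgx : g * x * g⁻¹ = x := by rw [hg, mul_inv_cancel_right]
      show g * el x y c s * g⁻¹ = el x y b t
      rw [el_conj, hgx, show (fun i => g * y i * g⁻¹) = fun i => tw x (e i) * y (k * i + j) from funext hgy,
        el_aff F.toElem hk, hes, hts]
      have e3 : ∀ a b : ZMod 2, a + (a + b) = b := by decide
      rw [e3]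
  rw [horb, Set.ncard_coe_finset, hO] at h1
  rw [← h2]
  omega

end FinHyp

end Cfsg.Agent.Classification.TitsFin
end

-- part: Classification/TitsFin/Local
section
/-!
# Local structure of the Tits configuration

All the local facts: `LocalOne` (one point, coordinates), `LocalTwo` (two collinear points), `LocalThree`
(involutions commuting with a point), `LocalFour` (the second class of involutions).
-/
end

-- part: Classification/TitsFin/Uniq
section
/-!
# An involution of the second class lies in `E_l - V_l` for a unique line `l`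
-/

set_option autoImplicit false

namespace Cfsg.Agent.Classification.TitsFin

open Subgroup

variable {G : Type*} [Group G]

namespace Uniq

section sylow

variable [Finite G]

/-- A 2-subgroup `P` of `C` which is not a Sylow 2-subgroup is normalised by some element of `C` outside `P`. -/
theorem exists_normalizing {P C : Subgroup G} (hPC : P ≤ C) {n : ℕ} (hP : Nat.card P = 2 ^ n)
    (h2 : 2 ∣ P.relIndex C) : ∃ s ∈ C, s ∉ P ∧ ∀ g, g ∈ P → s * g * s⁻¹ ∈ P := by
  have hf : Fact (Nat.Prime 2) := ⟨Nat.prime_two⟩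
  have hQ : Nat.card (P.subgroupOf C) = 2 ^ n := by
    rw [Nat.card_congr (subgroupOfEquivOfLe hPC).toEquiv, hP]
  have hdvd : 2 ^ (n + 1) ∣ Nat.card C := by
    rw [← card_mul_index (P.subgroupOf C), hQ, pow_succ]
    exact Nat.mul_dvd_mul_left _ h2
  obtain ⟨K, hK, hQK⟩ := Sylow.exists_subgroup_card_pow_succ hdvd hQ
  have hidx : (P.subgroupOf C).relIndex K = 2 := by
    have h3 := card_mul_index ((P.subgroupOf C).subgroupOf K)
    rw [Nat.card_congr (subgroupOfEquivOfLe hQK).toEquiv, hQ, hK, pow_succ] at h3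
    exact Nat.eq_of_mul_eq_mul_left (by positivity) h3
  have hn : ((P.subgroupOf C).subgroupOf K).Normal := normal_of_index_eq_two hidx
  have hne : ∃ s ∈ K, s ∉ P.subgroupOf C := by
    by_contra hcon
    have h4 : K ≤ P.subgroupOf C := fun s hs => by
      by_contra h5
      exact hcon ⟨s, hs, h5⟩
    rw [relIndex_eq_one.mpr h4] at hidx
    norm_num at hidx
  obtain ⟨s, hsK, hsP⟩ := hne
  refine ⟨s, s.2, fun h => hsP h, fun g hg => ?_⟩
  have h5 := hn.conj_mem ⟨⟨g, hPC hg⟩, hQK hg⟩ hg ⟨s, hsK⟩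
  exact h5

end sylow

section rel

variable {z p v x w : G}

theorem TL.symm [Finite G] (h : FinHyp z p) (a : TL z p v x w) : TL z p v w x := by
  obtain ⟨h1, h2, h3, h4, h5, h6, h7⟩ := a
  refine ⟨h.symm h1, h3, h2, h4, h6, h5, ?_⟩
  rwa [h.U_comm (h.isPt_left (h.symm h1)) self_mem_U (mem_U_of_adj (h.symm h1))]

theorem TL.third [Finite G] (h : FinHyp z p) (a : TL z p v x w) : TL z p v (x * w) x := by
  obtain ⟨h1, h2, h3, h4, h5, h6, h7⟩ := a
  refine ⟨h.symm (h.third h1), (h.mem_U_third h1 h2).mpr h3, h2, h4, h7, h5, ?_⟩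
  have hx := h.isPt_left h1
  have hc : x * w = w * x := h.U_comm hx self_mem_U (mem_U_of_adj h1)
  have : x * w * x = w := by rw [hc, mul_assoc, h.sq hx, mul_one]
  rwa [this]

/-- every point of the line may be the first one -/
theorem TL.first [Finite G] (h : FinHyp z p) (a : TL z p v x w) {y : G} (hy : y = x ∨ y = w ∨ y = x * w) :
    ∃ b, TL z p v y b ∧ ({y, b, y * b} : Set G) = {x, w, x * w} := by
  have hx := h.isPt_left a.1
  have hc : x * w = w * x := h.U_comm hx self_mem_U (mem_U_of_adj a.1)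
  rcases hy with rfl | rfl | rfl
  · exact ⟨w, a, rfl⟩
  · refine ⟨x, TL.symm h a, ?_⟩
    rw [← hc]
    exact Set.insert_comm _ _ _
  · refine ⟨x, TL.third h a, ?_⟩
    have : x * w * x = w := by rw [hc, mul_assoc, h.sq hx, mul_one]
    rw [this]
    ext t
    simp only [Set.mem_insert_iff, Set.mem_singleton_iff]
    (clear * -; tauto)

/-- two lines with a common point -/
theorem TL.eq_of_first [Finite G] (h : FinHyp z p) {w' : G} (a : TL z p v x w) (b : TL z p v x w') :
    ({x, w, x * w} : Set G) = {x, w', x * w'} := by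
  have hx := h.isPt_left a.1
  have hxx := h.sq hx
  by_cases h1 : w' = w
  · rw [h1]
  by_cases h2 : w' = x * w
  · have : x * w' = w := by rw [h2, ← mul_assoc, hxx, one_mul]
    rw [this, h2]
    ext t
    simp only [Set.mem_insert_iff, Set.mem_singleton_iff]
    (clear * -; tauto)
  · exfalso
    rcases h.inter_two a.1 b.1 h1 h2 a.2.1 a.2.2.1 b.2.2.1 with h3 | h3
    · exact a.2.2.2.1 h3
    · exact a.2.2.2.2.1 h3

end rel

section center

variable [Finite G] {z p v x w : G}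

theorem TL.comm (h : FinHyp z p) (a : TL z p v x w) : v * x = x * v :=
  (h.U_comm (h.isPt_left a.1) a.2.1 self_mem_U)

theorem TL.sq (h : FinHyp z p) (a : TL z p v x w) : v * v = 1 := h.U_sq (h.isPt_left a.1) a.2.1

theorem TL.mul_left (h : FinHyp z p) (a : TL z p v x w) : TL z p (x * v) x w := by
  have hx := h.isPt_left a.1
  have hxx := h.sq hx
  have hmem : x ∈ U z p w := mem_U_of_adj (h.symm a.1)
  refine ⟨a.1, mul_mem self_mem_U a.2.1, mul_mem hmem a.2.2.1, ?_, ?_, ?_, ?_⟩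
  · intro h1
    apply a.2.2.2.2.1
    rw [eq_inv_of_mul_eq_one_right h1, inv_eq_of_mul_eq_one_left hxx]
  · intro h1
    exact a.2.2.2.1 (mul_eq_left.mp h1)
  · intro h1
    apply a.2.2.2.2.2.2
    rw [← h1, ← mul_assoc, hxx, one_mul]
  · intro h1
    exact a.2.2.2.2.2.1 (mul_left_cancel h1)

/-- `C(x) ∩ C(v)` is a Sylow 2-subgroup of `C(v)` -/
theorem not_two_dvd (h : FinHyp z p) (a : TL z p v x w) :
    ¬ 2 ∣ (centralizer ({x} : Set G) ⊓ centralizer ({v} : Set G)).relIndex (centralizer ({v} : Set G)) := by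
  intro h2
  have hx := h.isPt_left a.1
  obtain ⟨s, hsC, hsP, hn⟩ := exists_normalizing inf_le_right (n := 9)
    ((h.card_cent_TL a).trans (by norm_num)) h2
  have hsv : s * v = v * s := mem_centralizer_singleton_iff.mp hsC
  have hPmem : ∀ g, g ∈ centralizer ({x} : Set G) ⊓ centralizer ({v} : Set G) ↔
      g * x = x * g ∧ g * v = v * g := by
    intro g
    rw [mem_inf, mem_centralizer_singleton_iff, mem_centralizer_singleton_iff]
  -- `s` normalises `P` also backwards
  have hn' : ∀ g, g ∈ centralizer ({x} : Set G) ⊓ centralizer ({v} : Set G) →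
      s⁻¹ * g * s ∈ centralizer ({x} : Set G) ⊓ centralizer ({v} : Set G) := by
    intro g hg
    have hmap : (centralizer ({x} : Set G) ⊓ centralizer ({v} : Set G)).map (MulAut.conj s).toMonoidHom =
        centralizer ({x} : Set G) ⊓ centralizer ({v} : Set G) := by
      refine eq_of_le_of_card_ge ?_ ?_
      · rintro _ ⟨k, hk, rfl⟩
        exact hn k hk
      · rw [card_map_of_injective (MulAut.conj s).injective]
    rw [← hmap] at hg
    obtain ⟨k, hk, rfl⟩ := hg
    have : s⁻¹ * (MulAut.conj s).toMonoidHom k * s = k := by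
      show s⁻¹ * (s * k * s⁻¹) * s = k
      group
    rw [this]
    exact hk
  have hcent : ∀ g, g * x = x * g → g * v = v * g → g * (s * x * s⁻¹) = s * x * s⁻¹ * g := by
    intro g h1 h2
    have h3 := ((hPmem _).mp (hn' g ((hPmem g).mpr ⟨h1, h2⟩))).1
    calc g * (s * x * s⁻¹) = s * (s⁻¹ * g * s * x) * s⁻¹ := by group
      _ = s * (x * (s⁻¹ * g * s)) * s⁻¹ := by rw [h3]
      _ = s * x * s⁻¹ * g := by group
  have hU : s * x * s⁻¹ ∈ U z p x := h.cent_U hx fun u hu =>
    (hcent u (h.U_comm hx hu self_mem_U) (h.U_comm hx hu a.2.1)).symm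
  have hpt : IsPt z (s * x * s⁻¹) := by
    obtain ⟨k, hk⟩ := hx
    exact ⟨s * k, by rw [← hk]; group⟩
  rcases h.center_TL a hU hcent with h3 | h3 | h3 | h3
  · obtain ⟨k, hk⟩ := hpt
    rw [h3] at hk
    exact h.z_ne (by simpa only [_root_.conj_eq_one_iff] using hk)
  · refine hsP ((hPmem s).mpr ⟨?_, hsv⟩)
    calc s * x = s * x * s⁻¹ * s := by group
      _ = x * s := by rw [h3]
  · rw [h3] at hpt
    exact h.TL_not_isPt a hpt
  · rw [h3] at hpt
    exact h.TL_not_isPt (TL.mul_left h a) hpt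

/-- `x` lies in the centre of `O₂(C(v))` -/
theorem mem_center (h : FinHyp z p) (hG : IsCharacteristicTwoType G) (a : TL z p v x w) :
    x ∈ ZN.o2 (centralizer ({v} : Set G)) ∧ ∀ g ∈ ZN.o2 (centralizer ({v} : Set G)), g * x = x * g := by
  have hP : IsPGroup 2 ↥(centralizer ({x} : Set G) ⊓ centralizer ({v} : Set G) : Subgroup G) :=
    IsPGroup.of_card (n := 9) ((h.card_cent_TL a).trans (by norm_num))
  have h1 := MinSimple.VModule.o2_le_of_sylow hP (not_two_dvd h a)
  have h2 : ∀ g ∈ ZN.o2 (centralizer ({v} : Set G)), g * x = x * g := fun g hg =>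
    mem_centralizer_singleton_iff.mp (h1 hg).1
  refine ⟨?_, h2⟩
  apply MinSimple.Basic.char2_centralizer hG (z := v) (by rw [pow_two, TL.sq h a]) a.2.2.2.1
  exact mem_inf.mpr ⟨mem_centralizer_singleton_iff.mpr (TL.comm h a).symm, mem_centralizer_iff.mpr h2⟩

/-- points commuting with one another -/
theorem comm_of_TL (h : FinHyp z p) (hG : IsCharacteristicTwoType G) (a : TL z p v x w) {x' w' : G}
    (b : TL z p v x' w') : x * x' = x' * x :=
  ((mem_center h hG b).2 x (mem_center h hG a).1)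

theorem isPt_mem_U (h : FinHyp z p) (hx : IsPt z x) {y : G} (hy : IsPt z y) (hyU : y ∈ U z p x) :
    y = x ∨ Adj z p x y := by
  rcases h.U_cases hx hyU with h1 | h1 | h1 | ⟨w, h1⟩
  · exfalso
    obtain ⟨k, hk⟩ := hy
    rw [h1] at hk
    exact h.z_ne (by simpa only [_root_.conj_eq_one_iff] using hk)
  · exact Or.inl h1
  · exact Or.inr h1
  · exact absurd hy (h.TL_not_isPt h1)

end center

end Uniq

open Uniq in
/-- **Uniqueness of the line of an involution of the second class.** -/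
theorem FinHyp.TL_unique [Finite G] {z p v x w x' w' : G} (h : FinHyp z p) (hG : IsCharacteristicTwoType G)
    (a : TL z p v x w) (b : TL z p v x' w') : ({x, w, x * w} : Set G) = {x', w', x' * w'} := by
  have hx' := h.isPt_left b.1
  have hx := h.isPt_left a.1
  have hw := h.isPt_left (h.symm a.1)
  have hxw := h.isPt_left (h.symm (h.third a.1))
  have c1 : x * x' = x' * x := comm_of_TL h hG a b
  have c2 : w * x' = x' * w := comm_of_TL h hG (TL.symm h a) b
  have c3 : x * w = w * x := h.U_comm hx self_mem_U (mem_U_of_adj a.1)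
  -- some point of the first line lies in `Q x'`
  obtain ⟨y, hy, hyU⟩ : ∃ y, (y = x ∨ y = w ∨ y = x * w) ∧ y ∈ U z p x' := by
    by_cases h1 : InQ z p x' x
    · exact ⟨x, Or.inl rfl, h.isPt_inQ hx' hx h1⟩
    by_cases h2 : InQ z p x' w
    · exact ⟨w, Or.inr (Or.inl rfl), h.isPt_inQ hx' hw h2⟩
    exact ⟨x * w, Or.inr (Or.inr rfl), h.isPt_inQ hx' hxw
      (h.inQ_mul_of_comm hx' c1 c2 (h.sq hx) (h.sq hw) c3 h1 h2)⟩
  obtain ⟨b1, a1, e1⟩ := TL.first h a hy
  rw [← e1]
  have hypt := h.isPt_left a1.1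
  rcases isPt_mem_U h hx' hypt hyU with rfl | hadj
  · exact TL.eq_of_first h a1 b
  · -- `y` lies on the second line
    have h3 : y = w' ∨ y = x' * w' := by
      by_contra hcon
      rw [not_or] at hcon
      rcases h.inter_two b.1 hadj hcon.1 hcon.2 b.2.1 b.2.2.1 a1.2.1 with h4 | h4
      · exact b.2.2.2.1 h4
      · exact b.2.2.2.2.1 h4
    obtain ⟨b2, a2, e2⟩ := TL.first h b (Or.inr h3)
    rw [← e2]
    exact TL.eq_of_first h a1 a2

end Cfsg.Agent.Classification.TitsFin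
end

-- part: Classification/TitsFin/Near
section
/-!
# The Tits group case: the geometry of points and lines is a generalized octagon, order of `G`
-/

set_option autoImplicit false

namespace Cfsg.Agent.Classification.TitsFin

open Subgroup

variable {G : Type*} [Group G]

/-- points -/
abbrev Pt (z : G) : Type _ := {x : G // IsPt z x}

/-- lines -/
abbrev Ln (z p : G) : Type _ := {l : Set G // ∃ x w, Adj z p x w ∧ l = {x, w, x * w}}

/-- incidence -/
def Inc (z p : G) (x : Pt z) (l : Ln z p) : Prop := x.1 ∈ l.1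

open Classical in
/-- half of the distance of two points, as far as their commutator relations see it -/
noncomputable def rel (z p : G) (x y : Pt z) : ℕ :=
  if x = y then 0 else if y.1 ∈ U z p x.1 then 1 else if x.1 * y.1 = y.1 * x.1 then 2
  else if (x.1 * y.1) ^ 4 = 1 then 3 else 4

theorem TL.conj {z p v x w : G} (h : TL z p v x w) (g : G) :
    TL z p (g * v * g⁻¹) (g * x * g⁻¹) (g * w * g⁻¹) := by
  obtain ⟨h1, h2, h3, h4, h5, h6, h7⟩ := h
  refine ⟨h1.conj g, conj_mem_U.mpr h2, conj_mem_U.mpr h3, ?_, ?_, ?_, ?_⟩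
  · intro e
    exact h4 (by simpa only [_root_.conj_eq_one_iff] using e)
  · intro e
    exact h5 (by simpa only [_root_.mul_left_inj, _root_.mul_right_inj] using e)
  · intro e
    exact h6 (by simpa only [_root_.mul_left_inj, _root_.mul_right_inj] using e)
  · intro e
    apply h7
    have e1 : g * v * g⁻¹ = g * (x * w) * g⁻¹ := by rw [e]; group
    simpa only [_root_.mul_left_inj, _root_.mul_right_inj] using e1

namespace FinHyp

variable [Finite G] {z p x w y f g u v x' w' s t : G}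

omit [Finite G] in
/-- two points of a line commute -/
theorem near_comm (h : FinHyp z p) (a : Adj z p x w) : x * w = w * x := by
  obtain ⟨g, rfl, rfl⟩ := a
  calc g * z * g⁻¹ * (g * p * g⁻¹) = g * (z * p) * g⁻¹ := by group
    _ = g * (p * z) * g⁻¹ := by rw [h.zp]
    _ = _ := by group

theorem near_right (h : FinHyp z p) (a : Adj z p x w) : IsPt z w := h.isPt_left (h.symm a)

theorem line_of_mem (h : FinHyp z p) (a : Adj z p x w) (hs : s ∈ ({x, w, x * w} : Set G))
    (ht : t ∈ ({x, w, x * w} : Set G)) (hst : s ≠ t) :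
    Adj z p s t ∧ ({x, w, x * w} : Set G) = {s, t, s * t} := by
  have hx := h.sq (h.isPt_left a)
  have hw := h.sq (h.near_right a)
  have hc := h.near_comm a
  have e1 : x * (x * w) = w := by rw [← mul_assoc, hx, one_mul]
  have e3 : w * (x * w) = x := by rw [hc, ← mul_assoc, hw, one_mul]
  have e4 : x * w * x = w := by rw [hc, mul_assoc, hx, mul_one]
  have e5 : x * w * w = x := by rw [mul_assoc, hw, mul_one]
  have a1 := h.third a
  have a2 := h.symm a
  have a3 := h.third a2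
  rw [← hc] at a3
  have a4 := h.symm a1
  have a5 := h.symm a3
  simp only [Set.mem_insert_iff, Set.mem_singleton_iff] at hs ht
  rcases hs with rfl | rfl | rfl <;> rcases ht with rfl | rfl | rfl
  · exact absurd rfl hst
  · exact ⟨a, rfl⟩
  · refine ⟨a1, ?_⟩
    rw [e1]
    ext r
    simp only [Set.mem_insert_iff, Set.mem_singleton_iff]
    (clear * -; tauto)
  · refine ⟨a2, ?_⟩
    rw [← hc]
    ext r
    simp only [Set.mem_insert_iff, Set.mem_singleton_iff]
    (clear * -; tauto)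
  · exact absurd rfl hst
  · refine ⟨a3, ?_⟩
    rw [e3]
    ext r
    simp only [Set.mem_insert_iff, Set.mem_singleton_iff]
    (clear * -; tauto)
  · refine ⟨a4, ?_⟩
    rw [e4]
    ext r
    simp only [Set.mem_insert_iff, Set.mem_singleton_iff]
    (clear * -; tauto)
  · refine ⟨a5, ?_⟩
    rw [e5]
    ext r
    simp only [Set.mem_insert_iff, Set.mem_singleton_iff]
    (clear * -; tauto)
  · exact absurd rfl hst

/-- the line of two collinear points -/
theorem adj_of_fl (h : FinHyp z p) {x y : Pt z} {l : Ln z p} (hf : Octagon.Fl (Inc z p) x l y) :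
    Adj z p x.1 y.1 ∧ l.1 = {x.1, y.1, x.1 * y.1} := by
  obtain ⟨h1, h2, h3⟩ := hf
  obtain ⟨l, a, b, hab, rfl⟩ := l
  exact h.line_of_mem hab h1 h2 (fun e => h3 (Subtype.ext e))

omit [Finite G] in
theorem col_of_adj (a : Adj z p x w) (hx : IsPt z x) (hw : IsPt z w) :
    Octagon.Col (Inc z p) ⟨x, hx⟩ ⟨w, hw⟩ := by
  refine ⟨⟨_, x, w, a, rfl⟩, ?_, ?_⟩
  · exact Or.inl rfl
  · exact Or.inr (Or.inl rfl)

/-- lines on `x1` different from each other -/
theorem ne_of_fl (h : FinHyp z p) {x y y' : Pt z} {l l' : Ln z p} (hf : Octagon.Fl (Inc z p) x l y)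
    (hf' : Octagon.Fl (Inc z p) x l' y') (hl : l ≠ l') : y'.1 ≠ y.1 ∧ y'.1 ≠ x.1 * y.1 := by
  have h1 := h.adj_of_fl hf
  have h2 := h.adj_of_fl hf'
  constructor
  · intro e
    apply hl
    apply Subtype.ext
    rw [h1.2, h2.2, e]
  · intro e
    apply hl
    apply Subtype.ext
    rw [h1.2, h2.2, e, ← mul_assoc, h.sq x.2, one_mul]
    ext r
    simp only [Set.mem_insert_iff, Set.mem_singleton_iff]
    (clear * -; tauto)

omit [Finite G] in
theorem fl_symm {x y : Pt z} {l : Ln z p} (hf : Octagon.Fl (Inc z p) x l y) : Octagon.Fl (Inc z p) y l x :=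
  ⟨hf.2.1, hf.1, hf.2.2.symm⟩

theorem not_inQ_of_fl (h : FinHyp z p) {x0 x1 x2 : Pt z} {l1 l2 : Ln z p}
    (a1 : Octagon.Fl (Inc z p) x0 l1 x1) (hl : l1 ≠ l2) (a2 : Octagon.Fl (Inc z p) x1 l2 x2) :
    ¬ InQ z p x0.1 x2.1 := by
  have n := h.ne_of_fl (fl_symm a1) a2 hl
  exact h.not_inQ (h.adj_of_fl (fl_symm a1)).1 (h.adj_of_fl a2).1 n.1 n.2

theorem rel1 (h : FinHyp z p) {x0 x1 : Pt z} {l1 : Ln z p} (a1 : Octagon.Fl (Inc z p) x0 l1 x1) :
    rel z p x0 x1 = 1 := by
  have h1 := h.adj_of_fl a1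
  unfold rel
  rw [if_neg a1.2.2, if_pos (mem_U_of_adj h1.1)]

theorem rel2 (h : FinHyp z p) {x0 x1 x2 : Pt z} {l1 l2 : Ln z p}
    (a1 : Octagon.Fl (Inc z p) x0 l1 x1) (hl : l1 ≠ l2) (a2 : Octagon.Fl (Inc z p) x1 l2 x2) :
    rel z p x0 x2 = 2 := by
  have h1 := h.adj_of_fl a1
  have h2 := h.adj_of_fl a2
  have n1 := h.not_inQ_of_fl a1 hl a2
  have n2 : x2.1 ∉ U z p x0.1 := fun e => n1 (h.inQ_of_mem x0.2 e)
  have n3 : x0 ≠ x2 := by
    rintro rfl
    exact n2 self_mem_U
  have c : x0.1 * x2.1 = x2.1 * x0.1 :=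
    h.U_comm x1.2 (mem_U_of_adj (h.adj_of_fl (fl_symm a1)).1) (mem_U_of_adj h2.1)
  unfold rel
  rw [if_neg n3, if_neg n2, if_pos c]

theorem rel3 (h : FinHyp z p) {x0 x1 x2 x3 : Pt z} {l1 l2 l3 : Ln z p}
    (a1 : Octagon.Fl (Inc z p) x0 l1 x1) (hl : l1 ≠ l2) (a2 : Octagon.Fl (Inc z p) x1 l2 x2)
    (hl2 : l2 ≠ l3) (a3 : Octagon.Fl (Inc z p) x2 l3 x3) :
    rel z p x0 x3 = 3 := by
  have h1 := h.adj_of_fl a1
  have h2 := h.adj_of_fl a2
  have h3 := h.adj_of_fl a3
  have n1 : ¬ InQ z p x2.1 x0.1 := h.not_inQ_of_fl (fl_symm a2) hl.symm (fl_symm a1)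
  have n2 : ¬ InQ z p x1.1 x3.1 := h.not_inQ_of_fl a2 hl2 a3
  have m1 : x0.1 ∈ U z p x1.1 := mem_U_of_adj (h.adj_of_fl (fl_symm a1)).1
  have m2 : x3.1 ∈ U z p x2.1 := mem_U_of_adj h3.1
  have T := h.comm_TL h2.1 m2 n2 m1 n1
  have s0 := h.sq x0.2
  have s3 := h.sq x3.2
  have i0 : (x0.1)⁻¹ = x0.1 := inv_eq_of_mul_eq_one_left s0
  have i3 : (x3.1)⁻¹ = x3.1 := inv_eq_of_mul_eq_one_left s3
  rw [i0, i3] at T
  have hne : x0.1 * x3.1 ≠ x3.1 * x0.1 := by
    intro e
    apply T.2.2.2.1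
    rw [← e, mul_assoc x0.1, s3, mul_one, s0]
  have n3 : x0 ≠ x3 := by
    rintro rfl
    exact hne rfl
  have n4 : x3.1 ∉ U z p x0.1 := fun e => hne (h.U_comm x0.2 self_mem_U e)
  have q : (x0.1 * x3.1) ^ 4 = 1 := by
    have e1 : (x0.1 * x3.1) ^ 4 = (x3.1 * x0.1 * x3.1 * x0.1)⁻¹ * (x3.1 * x0.1 * x3.1 * x0.1)⁻¹ := by
      simp only [mul_inv_rev, i0, i3]
      simp only [pow_succ, pow_zero, one_mul, mul_assoc]
    rw [e1, ← mul_inv_rev, h.U_sq x1.2 T.2.1, inv_one]
  unfold rel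
  rw [if_neg n3, if_neg n4, if_neg hne, if_pos q]

theorem rel4 (h : FinHyp z p) {x0 x1 x2 x3 x4 : Pt z} {l1 l2 l3 l4 : Ln z p}
    (a1 : Octagon.Fl (Inc z p) x0 l1 x1) (hl : l1 ≠ l2) (a2 : Octagon.Fl (Inc z p) x1 l2 x2)
    (hl2 : l2 ≠ l3) (a3 : Octagon.Fl (Inc z p) x2 l3 x3) (hl3 : l3 ≠ l4) (a4 : Octagon.Fl (Inc z p) x3 l4 x4) :
    rel z p x0 x4 = 4 := by
  have n1 : ¬ InQ z p x2.1 x0.1 := h.not_inQ_of_fl (fl_symm a2) hl.symm (fl_symm a1)
  have n2 : ¬ InQ z p x2.1 x4.1 := h.not_inQ_of_fl a3 hl3 a4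
  have m1 : x0.1 ∈ U z p x1.1 := mem_U_of_adj (h.adj_of_fl (fl_symm a1)).1
  have m2 : x4.1 ∈ U z p x3.1 := mem_U_of_adj (h.adj_of_fl a4).1
  have d := h.ne_of_fl (fl_symm a2) a3 hl2
  have key : (x0.1 * x4.1) ^ 4 ≠ 1 :=
    h.no_pow_four (h.adj_of_fl (fl_symm a2)).1 (h.adj_of_fl a3).1 d.1 d.2 m1 n1 m2 n2
  have s0 := h.sq x0.2
  have s4 := h.sq x4.2
  have hne : x0.1 * x4.1 ≠ x4.1 * x0.1 := by
    intro e
    apply key
    have e2 : (x0.1 * x4.1) * (x0.1 * x4.1) = 1 := by
      calc (x0.1 * x4.1) * (x0.1 * x4.1) = x0.1 * (x4.1 * x0.1) * x4.1 := by simp only [mul_assoc]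
        _ = x0.1 * (x0.1 * x4.1) * x4.1 := by rw [e]
        _ = (x0.1 * x0.1) * (x4.1 * x4.1) := by simp only [mul_assoc]
        _ = 1 := by rw [s0, s4, mul_one]
    calc (x0.1 * x4.1) ^ 4 = ((x0.1 * x4.1) * (x0.1 * x4.1)) ^ 2 := by
          rw [← pow_two, ← pow_mul]
      _ = 1 := by rw [e2, one_pow]
  have n3 : x0 ≠ x4 := by
    rintro rfl
    exact hne rfl
  have n4 : x4.1 ∉ U z p x0.1 := fun e => hne (h.U_comm x0.2 self_mem_U e)
  unfold rel
  rw [if_neg n3, if_neg n4, if_neg hne, if_neg key]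

omit [Finite G] in
theorem card_adj (h : FinHyp z p) (hx : IsPt z x) : Nat.card {y // Adj z p x y} = 10 := by
  obtain ⟨g, rfl⟩ := hx
  rw [← h.cardA]
  refine Nat.card_congr (Equiv.symm ⟨fun y => ⟨g * y.1 * g⁻¹, y.2.conj g⟩,
    fun y => ⟨g⁻¹ * y.1 * g, ?_⟩, fun y => ?_, fun y => ?_⟩)
  · have h1 : g * (g⁻¹ * y.1 * g) * g⁻¹ = y.1 := by group
    exact (adj_iff_of_conj (g := g) rfl h1).mp y.2
  · apply Subtype.ext
    show g⁻¹ * (g * y.1 * g⁻¹) * g = y.1
    group
  · apply Subtype.ext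
    show g * (g⁻¹ * y.1 * g) * g⁻¹ = y.1
    group

theorem line_three (h : FinHyp z p) (a : Adj z p x w) : x ≠ w ∧ x ≠ x * w ∧ w ≠ x * w := by
  refine ⟨(h.ne a).symm, fun e => ?_, fun e => ?_⟩
  · exact h.ne (h.third a) e.symm
  · have h1 := h.third (h.symm a)
    rw [← h.near_comm a] at h1
    exact h.ne h1 e.symm

theorem card_three (h : FinHyp z p) (l : Ln z p) : Nat.card {x // Inc z p x l} = 3 := by
  obtain ⟨l, a, b, hab, rfl⟩ := l
  have hpt : ∀ g ∈ ({a, b, a * b} : Set G), IsPt z g := by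
    rintro g (rfl | rfl | rfl)
    · exact h.isPt_left hab
    · exact h.near_right hab
    · exact h.near_right (h.third hab)
  let e : {x // Inc z p x ⟨{a, b, a * b}, a, b, hab, rfl⟩} ≃ ({a, b, a * b} : Set G) :=
    { toFun := fun x => ⟨x.1.1, x.2⟩
      invFun := fun g => ⟨⟨g.1, hpt g.1 g.2⟩, g.2⟩
      left_inv := fun x => rfl
      right_inv := fun x => rfl }
  rw [Nat.card_congr e, Nat.card_coe_set_eq]
  have h3 := h.line_three hab
  exact Set.ncard_eq_three.mpr ⟨a, b, a * b, h3.1, h3.2.1, h3.2.2, rfl⟩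

theorem card_five (h : FinHyp z p) (x : Pt z) : Nat.card {l // Inc z p x l} = 5 := by
  classical
  obtain ⟨x, hx⟩ := x
  let f : {y // Adj z p x y} → {l // Inc z p ⟨x, hx⟩ l} := fun y => ⟨⟨{x, y.1, x * y.1}, x, y.1, y.2, rfl⟩, Or.inl rfl⟩
  have hfib : ∀ l, Nat.card {y // f y = l} = 2 := by
    intro l
    obtain ⟨⟨l, a, b, hab, rfl⟩, hl⟩ := l
    have hl' : x ∈ ({a, b, a * b} : Set G) := hl
    obtain ⟨y, hy, hxy⟩ : ∃ y ∈ ({a, b, a * b} : Set G), x ≠ y := by
      by_cases e : x = a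
      · exact ⟨b, by simp, by rw [e]; exact (h.line_three hab).1⟩
      · exact ⟨a, by simp, e⟩
    have hadj := h.line_of_mem hab hl' hy hxy
    have hx3 := h.line_three hadj.1
    have hxx := h.sq hx
    let e : {y // f y = ⟨⟨{a, b, a * b}, a, b, hab, rfl⟩, hl⟩} ≃ ({y, x * y} : Set G) :=
      { toFun := fun u => ⟨u.1.1, by
          have h1 : ({x, u.1.1, x * u.1.1} : Set G) = {a, b, a * b} :=
            congrArg Subtype.val (congrArg Subtype.val u.2)
          have h2 : u.1.1 ∈ ({x, y, x * y} : Set G) := by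
            rw [← h1.trans hadj.2]
            exact Or.inr (Or.inl rfl)
          rcases h2 with h2 | h2
          · exact absurd h2 (h.ne u.1.2)
          · exact h2⟩
        invFun := fun g => ⟨⟨g.1, by
            rcases g.2 with h1 | h1
            · rw [h1]; exact hadj.1
            · rw [h1]; exact h.third hadj.1⟩, by
            apply Subtype.ext
            apply Subtype.ext
            show ({x, g.1, x * g.1} : Set G) = {a, b, a * b}
            rw [hadj.2]
            rcases g.2 with h1 | h1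
            · rw [h1]
            · rw [h1, ← mul_assoc, hxx, one_mul]
              ext r
              simp only [Set.mem_insert_iff, Set.mem_singleton_iff]
              (clear * -; tauto)⟩
        left_inv := fun x => rfl
        right_inv := fun x => rfl }
    rw [Nat.card_congr e, Nat.card_coe_set_eq]
    exact Set.ncard_pair hx3.2.2
  have h1 := Nat.card_congr (Equiv.sigmaFiberEquiv f)
  rw [h.card_adj hx] at h1
  have : Fintype {l // Inc z p ⟨x, hx⟩ l} := Fintype.ofFinite _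
  rw [Nat.card_sigma] at h1
  simp only [hfib, Finset.sum_const, smul_eq_mul, Finset.card_univ] at h1
  rw [Nat.card_eq_fintype_card]
  omega

theorem exists_TL (h : FinHyp z p) (a : Adj z p x w) : ∃ v, TL z p v x w := by
  have hoff : ∀ {x w : G}, Adj z p x w → ∃ y, Adj z p x y ∧ y ≠ w ∧ y ≠ x * w := by
    intro x w a
    by_contra hcon
    push Not at hcon
    have h1 : Nat.card {y // Adj z p x y} ≤ Nat.card ({w, x * w} : Set G) := by
      refine Nat.card_le_card_of_injective (fun y => ⟨y.1, ?_⟩) ?_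
      · by_cases e : y.1 = w
        · exact Or.inl e
        · exact Or.inr (hcon y.1 y.2 e)
      · intro y y' e
        have e' := congrArg Subtype.val e
        exact Subtype.ext e'
    rw [h.card_adj (h.isPt_left a), Nat.card_coe_set_eq, Set.ncard_pair (h.line_three a).2.2] at h1
    omega
  obtain ⟨y, hy, hy1, hy2⟩ := hoff a
  obtain ⟨y', hy', hy1', hy2'⟩ := hoff (h.symm a)
  exact ⟨_, h.comm_TL a (mem_U_of_adj hy') (h.not_inQ (h.symm a) hy' hy1' hy2') (mem_U_of_adj hy)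
    (h.not_inQ a hy hy1 hy2)⟩

theorem mem_line_of_mem_U (h : FinHyp z p) (hG : IsCharacteristicTwoType G) (hy : IsPt z y) (hv : v ∈ U z p y)
    (T : TL z p v x w) : y ∈ ({x, w, x * w} : Set G) := by
  rcases h.U_cases hy hv with e | e | e | ⟨w', e⟩
  · exact absurd e T.2.2.2.1
  · exact absurd (e ▸ hy) (h.TL_not_isPt T)
  · exact absurd (h.near_right e) (h.TL_not_isPt T)
  · rw [← h.TL_unique hG e T]
    exact Or.inl rfl

/-- `v` commutes with the point `y`: the line of `v` has a point collinear to `y` -/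
theorem exists_col_of_comm (h : FinHyp z p) (hG : IsCharacteristicTwoType G) (hy : IsPt z y) (hc : v * y = y * v)
    (T : TL z p v x w) : ∃ y' : Pt z, Octagon.Col (Inc z p) ⟨y, hy⟩ y' ∧ y'.1 ∈ ({x, w, x * w} : Set G) := by
  rcases h.invol hy hc (h.U_sq (h.isPt_left T.1) T.2.1) with hv | ⟨y', hy', hv⟩
  · obtain ⟨l, hl⟩ : ∃ l : Ln z p, y ∈ l.1 := by
      obtain ⟨g, hg⟩ := hy
      exact ⟨⟨_, g * z * g⁻¹, g * p * g⁻¹, ⟨g, rfl, rfl⟩, rfl⟩, Or.inl hg.symm⟩
    exact ⟨⟨y, hy⟩, ⟨l, hl, hl⟩, h.mem_line_of_mem_U hG hy hv T⟩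
  · exact ⟨⟨y', h.near_right hy'⟩, col_of_adj hy' hy (h.near_right hy'), h.mem_line_of_mem_U hG (h.near_right hy') hv T⟩

/-- two non-conjugate involutions commute with a common involution -/
theorem exists_invol {x v : G} (hx : x * x = 1) (hv : v * v = 1) (hn : ∀ g, g * x * g⁻¹ ≠ v) :
    ∃ t, t ≠ 1 ∧ t * t = 1 ∧ t * x = x * t ∧ t * v = v * t := by
  have ix : x⁻¹ = x := inv_eq_of_mul_eq_one_left hx
  have iv : v⁻¹ = v := inv_eq_of_mul_eq_one_left hv
  have c1 : x * (x * v) * x⁻¹ = (x * v)⁻¹ := by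
    rw [mul_inv_rev, ix, iv, ← mul_assoc, hx, one_mul]
  have cn : ∀ k : ℕ, x * (x * v) ^ k * x⁻¹ = ((x * v) ^ k)⁻¹ := by
    intro k
    rw [← conj_pow, c1, inv_pow]
  have pos : 0 < orderOf (x * v) := orderOf_pos _
  rcases Nat.even_or_odd' (orderOf (x * v)) with ⟨k, hk | hk⟩
  · refine ⟨(x * v) ^ k, ?_, ?_, ?_, ?_⟩
    · intro e
      have := orderOf_dvd_of_pow_eq_one e
      have := Nat.le_of_dvd (by omega) this
      omega
    · rw [← pow_add, ← two_mul, ← hk, pow_orderOf_eq_one]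
    · have e : ((x * v) ^ k)⁻¹ = (x * v) ^ k := by
        apply inv_eq_of_mul_eq_one_left
        rw [← pow_add, ← two_mul, ← hk, pow_orderOf_eq_one]
      have := cn k
      rw [e] at this
      exact (mul_inv_eq_iff_eq_mul.mp this).symm
    · have e : ((x * v) ^ k)⁻¹ = (x * v) ^ k := by
        apply inv_eq_of_mul_eq_one_left
        rw [← pow_add, ← two_mul, ← hk, pow_orderOf_eq_one]
      have := cn k
      rw [e] at this
      have h2 : x * (x * v) ^ k = (x * v) ^ k * x := mul_inv_eq_iff_eq_mul.mp this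
      have h3 : Commute ((x * v) ^ k) (x * v) := (Commute.refl _).pow_left k
      have h4 : Commute ((x * v) ^ k) x := h2.symm
      have h5 : v = x * (x * v) := by rw [← mul_assoc, hx, one_mul]
      have h6 : Commute ((x * v) ^ k) (x * (x * v)) := h4.mul_right h3
      rw [← h5] at h6
      exact h6.eq
  · exfalso
    apply hn ((x * v) ^ k)
    have h2 : x * ((x * v) ^ k)⁻¹ = (x * v) ^ k * x := by
      calc x * ((x * v) ^ k)⁻¹ = x * (x * (x * v) ^ k * x⁻¹) := by rw [cn k]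
        _ = (x * x) * (x * v) ^ k * x⁻¹ := by simp only [mul_assoc]
        _ = (x * v) ^ k * x := by rw [hx, one_mul, ix]
    rw [mul_assoc, h2, ← mul_assoc, ← pow_add, ← two_mul]
    have h4 : (x * v) ^ (2 * k) * (x * v) = 1 := by
      rw [← pow_succ, ← hk, pow_orderOf_eq_one]
    rw [eq_inv_of_mul_eq_one_left h4, mul_inv_rev, ix, iv, mul_assoc, hx, mul_one]

theorem near (h : FinHyp z p) (hG : IsCharacteristicTwoType G) (x : Pt z) (m : Ln z p) :
    ∃ x1 x2 x3, Octagon.Col (Inc z p) x x1 ∧ Octagon.Col (Inc z p) x1 x2 ∧ Octagon.Col (Inc z p) x2 x3 ∧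
      Inc z p x3 m := by
  obtain ⟨m, a, b, hab, rfl⟩ := m
  obtain ⟨v, T⟩ := h.exists_TL hab
  have hv := h.U_sq (h.isPt_left T.1) T.2.1
  obtain ⟨t, t1, t2, tx, tv⟩ := exists_invol (h.sq x.2) hv (fun g e => h.TL_not_isPt T (e ▸ x.2.conj g))
  -- `t` is in `U y`
  obtain ⟨y, hxy, hy⟩ : ∃ y : Pt z, Octagon.Col (Inc z p) x y ∧ t ∈ U z p y.1 := by
    rcases h.invol x.2 tx t2 with h1 | ⟨y, hy, h1⟩
    · obtain ⟨l, hl⟩ : ∃ l : Ln z p, x.1 ∈ l.1 := by
        obtain ⟨g, hg⟩ := x.2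
        exact ⟨⟨_, g * z * g⁻¹, g * p * g⁻¹, ⟨g, rfl, rfl⟩, rfl⟩, Or.inl hg.symm⟩
      exact ⟨x, ⟨l, hl, hl⟩, h1⟩
    · exact ⟨⟨y, h.near_right hy⟩, col_of_adj hy x.2 _, h1⟩
  have hself : ∀ y : Pt z, Octagon.Col (Inc z p) y y := by
    intro y
    obtain ⟨g, hg⟩ := y.2
    exact ⟨⟨_, g * z * g⁻¹, g * p * g⁻¹, ⟨g, rfl, rfl⟩, rfl⟩, Or.inl hg.symm, Or.inl hg.symm⟩
  -- if `t` is a point
  have main1 : ∀ y2 : Pt z, Octagon.Col (Inc z p) y y2 → v * y2.1 = y2.1 * v →
      ∃ x1 x2 x3, Octagon.Col (Inc z p) x x1 ∧ Octagon.Col (Inc z p) x1 x2 ∧ Octagon.Col (Inc z p) x2 x3 ∧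
      Inc z p x3 ⟨{a, b, a * b}, a, b, hab, rfl⟩ := by
    intro y2 hy2 hc
    obtain ⟨y3, hy3, hy3'⟩ := h.exists_col_of_comm hG y2.2 hc T
    exact ⟨y, y2, y3, hxy, hy2, hy3, hy3'⟩
  rcases h.U_cases y.2 hy with e | e | e | ⟨w', e⟩
  · exact absurd e t1
  · exact main1 y (hself y) (by rw [← e, tv])
  · exact main1 ⟨t, h.near_right e⟩ (col_of_adj e y.2 _) tv.symm
  · -- `t` is on the line `l = {y, w', y * w'}`, `v` normalises `l`
    have e2 := e.conj v
    have e3 : v * t * v⁻¹ = t := by rw [← tv, mul_inv_cancel_right]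
    rw [e3] at e2
    have e4 := h.TL_unique hG e2 e
    obtain ⟨y2, hy2, hy2'⟩ : ∃ y2 ∈ ({y.1, w', y.1 * w'} : Set G), v * y2 * v⁻¹ = y2 := by
      have iv : v⁻¹ = v := inv_eq_of_mul_eq_one_left hv
      have c1 : v * y.1 * v⁻¹ ∈ ({y.1, w', y.1 * w'} : Set G) := by
        rw [← e4]
        exact Or.inl rfl
      have c2 : ∀ g, v * (v * g * v⁻¹) * v⁻¹ = g := by
        intro g
        rw [iv]
        calc v * (v * g * v) * v = (v * v) * g * (v * v) := by simp only [mul_assoc]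
          _ = g := by rw [hv, one_mul, mul_one]
      have c3 : ∀ g k, v * (g * k) * v⁻¹ = (v * g * v⁻¹) * (v * k * v⁻¹) := by
        intro g k
        group
      have cc := h.near_comm e.1
      have yy := h.sq y.2
      rcases c1 with c | c | c
      · exact ⟨y.1, Or.inl rfl, c⟩
      · refine ⟨y.1 * w', Or.inr (Or.inr rfl), ?_⟩
        have c5 : v * w' * v⁻¹ = y.1 := by rw [← c, c2]
        rw [c3, c, c5, cc]
      · refine ⟨w', Or.inr (Or.inl rfl), ?_⟩
        have c5 : v * (y.1 * w') * v⁻¹ = y.1 := by rw [← c, c2]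
        have c6 : w' = y.1 * (y.1 * w') := by rw [← mul_assoc, yy, one_mul]
        rw [c6, c3, c, c5, cc, mul_assoc, yy, mul_one, ← cc, ← mul_assoc, yy, one_mul]
    have hy2p : IsPt z y2 := by
      rcases hy2 with r | r | r
      · rw [r]; exact y.2
      · rw [r]; exact h.near_right e.1
      · rw [r]; exact h.near_right (h.third e.1)
    refine main1 ⟨y2, hy2p⟩ ⟨⟨_, y.1, w', e.1, rfl⟩, Or.inl rfl, hy2⟩ ?_
    exact mul_inv_eq_iff_eq_mul.mp hy2'

theorem oct (h : FinHyp z p) (hG : IsCharacteristicTwoType G) : Octagon.Oct (Inc z p) (rel z p) where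
  three := h.card_three
  five := h.card_five
  rel0 x := by
    unfold rel
    rw [if_pos rfl]
  rel1 := h.rel1
  rel2 := h.rel2
  rel3 := h.rel3
  rel4 := h.rel4
  near := h.near hG

theorem card_eq_pt (h : FinHyp z p) : Nat.card G = Nat.card (Pt z) * 10240 := by
  classical
  let f : G → Pt z := fun g => ⟨g * z * g⁻¹, g, rfl⟩
  have hfib : ∀ x, Nat.card {g // f g = x} = 10240 := by
    rintro ⟨x, k, rfl⟩
    rw [← h.cardC]
    refine Nat.card_congr ⟨fun g => ⟨k⁻¹ * g.1, ?_⟩, fun c => ⟨k * c.1, ?_⟩, fun g => ?_, fun c => ?_⟩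
    · have h1 : g.1 * z * g.1⁻¹ = k * z * k⁻¹ := congrArg Subtype.val g.2
      rw [mem_centralizer_singleton_iff]
      calc k⁻¹ * g.1 * z = k⁻¹ * (g.1 * z * g.1⁻¹) * g.1 := by group
        _ = k⁻¹ * (k * z * k⁻¹) * g.1 := by rw [h1]
        _ = z * (k⁻¹ * g.1) := by group
    · have h1 := mem_centralizer_singleton_iff.mp c.2
      apply Subtype.ext
      show k * c.1 * z * (k * c.1)⁻¹ = k * z * k⁻¹
      calc k * c.1 * z * (k * c.1)⁻¹ = k * (c.1 * z) * c.1⁻¹ * k⁻¹ := by group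
        _ = k * (z * c.1) * c.1⁻¹ * k⁻¹ := by rw [h1]
        _ = _ := by group
    · apply Subtype.ext
      show k * (k⁻¹ * g.1) = g.1
      group
    · apply Subtype.ext
      show k⁻¹ * (k * c.1) = c.1
      group
  have h1 := Nat.card_congr (Equiv.sigmaFiberEquiv f)
  have : Fintype (Pt z) := Fintype.ofFinite _
  rw [Nat.card_sigma] at h1
  simp only [hfib, Finset.sum_const, smul_eq_mul, Finset.card_univ] at h1
  rw [Nat.card_eq_fintype_card (α := Pt z)]
  exact h1.symm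

theorem card_eq (h : FinHyp z p) (hG : IsCharacteristicTwoType G) : Nat.card G = 17971200 := by
  classical
  have ho := h.oct hG
  have : Nonempty (Pt z) := ⟨⟨z, 1, by group⟩⟩
  have hL := ho.card_lines
  have e : (Σ x : Pt z, {l // Inc z p x l}) ≃ (Σ l : Ln z p, {x // Inc z p x l}) :=
    { toFun := fun a => ⟨a.2.1, a.1, a.2.2⟩
      invFun := fun a => ⟨a.2.1, a.1, a.2.2⟩
      left_inv := fun a => rfl
      right_inv := fun a => rfl }
  have h1 := Nat.card_congr e
  have : Fintype (Pt z) := Fintype.ofFinite _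
  have : Fintype (Ln z p) := Fintype.ofFinite _
  rw [Nat.card_sigma, Nat.card_sigma] at h1
  simp only [h.card_five, h.card_three, Finset.sum_const, smul_eq_mul, Finset.card_univ] at h1
  rw [Nat.card_eq_fintype_card] at hL
  have h2 := h.card_eq_pt
  rw [Nat.card_eq_fintype_card (α := Pt z)] at h2
  omega

end FinHyp

end Cfsg.Agent.Classification.TitsFin
end

private theorem dce_c51fd02d106f : _root_.True := by
  try have : _root_.True := by simp only [_root_.Cfsg.Agent.Classification.TitsFin.sg.eq_1]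
  try have : _root_.True := by simp only [_root_.Cfsg.Agent.Classification.TitsFin.U.eq_1]
  exact _root_.True.intro
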